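import Groth.Agent.EtShLib.PullGerm
import Groth.Agent.FEtRank.Count
import Groth.Prelude.Def_EtAcyc
import Mathlib

/-!
Sheaves of sets: pulling back along a universally submersive morphism with connected geometric fibres
does not change sections.
-/

set_option autoImplicit false
set_option backward.isDefEq.respectTransparency false
set_option maxHeartbeats 1000000
set_option linter.style.haveILetI false

universe u

open CategoryTheory CategoryTheory.Limits AlgebraicGeometry Opposite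

noncomputable section

namespace Groth.Agent.EtShLib

variable {X S : Scheme.{u}} (f : X ⟶ S) (F : EtDesc.Sh S)

/-- the unit on sections -/
abbrev unitSect (V : S.Etale) (σ : EtDesc.sect F V) :
    EtDesc.sect ((EtDesc.pullSh f).obj F) ((EtCoh.bc f).obj V) :=
  ((EtDesc.adjSh f).unit.app F).hom.app (op V) σ

theorem unitSect_map {V W : S.Etale} (g : W ⟶ V) (σ : EtDesc.sect F V) :
    unitSect f F W (F.obj.map g.op σ) =
      ((EtDesc.pullSh f).obj F).obj.map ((EtCoh.bc f).map g).op (unitSect f F V σ) :=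
  NatTrans.naturality_apply ((EtDesc.adjSh f).unit.app F).hom g.op σ

/-- where two pulled back sections agree -/
theorem mem_eqLoc_unit (V : S.Etale) (a b : EtDesc.sect F V) (p : ((EtCoh.bc f).obj V).left) :
    p ∈ eqLoc ((EtDesc.pullSh f).obj F) ((EtCoh.bc f).obj V) (unitSect f F V a) (unitSect f F V b) ↔
      pullback.fst V.hom f p ∈ eqLoc F V a b := by
  obtain ⟨Ω, _, _, θ, -, hθ⟩ := Groth.Agent.EtStalk.covers_all (X := ((EtCoh.bc f).obj V).left) p
  let ξ : Spec (CommRingCat.of Ω) ⟶ X := θ ≫ pullback.snd V.hom f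
  let v : Over.mk (ξ ≫ f) ⟶ (Scheme.Etale.forget S).obj V := Over.homMk (θ ≫ pullback.fst V.hom f) (by
    change (θ ≫ pullback.fst V.hom f) ≫ V.hom = (θ ≫ pullback.snd V.hom f) ≫ f
    rw [Category.assoc, Category.assoc, pullback.condition])
  have hup : (EtPushStalk.up f ξ v).left = θ := by
    change pullback.lift v.left ξ _ = θ
    apply pullback.hom_ext
    · rw [pullback.lift_fst]; rfl
    · rw [pullback.lift_snd]
  obtain ⟨γ, hγ, hγg⟩ := exists_pullGerm f ξ (ξ ≫ f) rfl F
  have h1 := gm_eq_iff (G := (EtDesc.pullSh f).obj F) ξ (EtPushStalk.up f ξ v) (unitSect f F V a) (unitSect f F V b)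
  have hd : (θ (default : Spec (CommRingCat.of Ω))) = p := hθ
  have hd' : (EtPushStalk.up f ξ v).left (default : Spec (CommRingCat.of Ω)) = p := by rw [hup]; exact hθ
  erw [hd'] at h1
  refine h1.symm.trans ?_
  have h2 := gm_eq_iff (G := F) (ξ ≫ f) v a b
  have e : v.left (default : Spec (CommRingCat.of Ω)) = pullback.fst V.hom f p := by
    rw [← hθ]
    exact Scheme.Hom.comp_apply θ (pullback.fst V.hom f) _
  erw [e] at h2
  refine Iff.trans ?_ h2
  refine ⟨fun h => hγ.1 ?_, fun h => ?_⟩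
  · exact (hγg V v a).trans (h.trans (hγg V v b).symm)
  · exact (hγg V v a).symm.trans ((congrArg γ h).trans (hγg V v b))

theorem bc_map_fst {V W : S.Etale} (g : W ⟶ V) :
    ((EtCoh.bc f).map g).left ≫ pullback.fst V.hom f = pullback.fst W.hom f ≫ g.left :=
  (EtCoh.isPullback_bc_map f g).w

theorem bc_map_snd {V W : S.Etale} (g : W ⟶ V) :
    ((EtCoh.bc f).map g).left ≫ pullback.snd V.hom f = pullback.snd W.hom f := by
  dsimp [EtCoh.bc]
  exact pullback.lift_snd _ _ _

variable {f F} {V₀ : S.Etale} (t : EtDesc.sect ((EtDesc.pullSh f).obj F) ((EtCoh.bc f).obj V₀))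

/-- where the given section is the pullback of `σ` -/
def ok (V : S.Etale) (a : V ⟶ V₀) (σ : EtDesc.sect F V) : Set ((EtCoh.bc f).obj V).left :=
  eqLoc ((EtDesc.pullSh f).obj F) ((EtCoh.bc f).obj V) (((EtDesc.pullSh f).obj F).obj.map ((EtCoh.bc f).map a).op t)
    (unitSect f F V σ)

theorem ok_map {V W : S.Etale} (a : V ⟶ V₀) (g : W ⟶ V) (σ : EtDesc.sect F V) :
    ok t W (g ≫ a) (F.obj.map g.op σ) = ((EtCoh.bc f).map g).left ⁻¹' ok t V a σ := by
  rw [ok, ok, unitSect_map, Functor.map_comp, ← map_map, eqLoc_map]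

variable {Ω : Type u} [Field Ω] [IsAlgClosed Ω] (η : Spec (CommRingCat.of Ω) ⟶ S)
  (θ : Over.mk η ⟶ (Scheme.Etale.forget S).obj V₀)

variable (f) in
/-- the fibre inside `X ×_S V` -/
def mP (V : S.Etale) (v : Over.mk η ⟶ (Scheme.Etale.forget S).obj V) :
    pullback f η ⟶ ((EtCoh.bc f).obj V).left :=
  pullback.lift (pullback.snd f η ≫ v.left) (pullback.fst f η) (by
    rw [Category.assoc, pullback.condition]
    exact congrArg (pullback.snd f η ≫ ·) (Over.w v))

variable (f) in
theorem mP_fst (V : S.Etale) (v : Over.mk η ⟶ (Scheme.Etale.forget S).obj V) :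
    mP f η V v ≫ pullback.fst V.hom f = pullback.snd f η ≫ v.left := pullback.lift_fst _ _ _

variable (f) in
theorem mP_map {V W : S.Etale} (g : W ⟶ V) (w : Over.mk η ⟶ (Scheme.Etale.forget S).obj W) :
    mP f η W w ≫ ((EtCoh.bc f).map g).left = mP f η V ((Scheme.pointSmallEtale η).fiber.map g w) := by
  apply pullback.hom_ext
  · refine (Category.assoc _ _ _).trans ?_
    refine (congrArg (mP f η W w ≫ ·) (bc_map_fst f g)).trans ?_
    refine (Category.assoc _ _ _).symm.trans ?_
    rw [mP, mP, pullback.lift_fst, pullback.lift_fst, Category.assoc]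
    rfl
  · refine (Category.assoc _ _ _).trans ?_
    rw [bc_map_snd, mP, mP, pullback.lift_snd, pullback.lift_snd]

variable (F) in
/-- local candidates near a geometric point of `V₀` -/
structure Rep : Type (u + 1) where
  /-- neighbourhood -/
  V : S.Etale
  /-- over `V₀` -/
  a : V ⟶ V₀
  /-- point -/
  v : Over.mk η ⟶ (Scheme.Etale.forget S).obj V
  /-- lying over the given one -/
  hv : v.left ≫ a.left = θ.left
  /-- section -/
  σ : EtDesc.sect F V

variable {η θ}

/-- agreement at a point of the fibre -/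
def Rep.InL (A : Rep F η θ) (x : ↥(pullback f η)) : Prop := mP f η A.V A.v x ∈ ok t A.V A.a A.σ

theorem isOpen_inL (A : Rep F η θ) : IsOpen {x | A.InL t x} :=
  (isOpen_eqLoc _ _).preimage (mP f η A.V A.v).continuous

/-- restriction of a candidate -/
def Rep.res (A : Rep F η θ) {W : S.Etale} (g : W ⟶ A.V) (w : Over.mk η ⟶ (Scheme.Etale.forget S).obj W)
    (hw : (Scheme.pointSmallEtale η).fiber.map g w = A.v) : Rep F η θ :=
  ⟨W, g ≫ A.a, w, by
    have h : w.left ≫ g.left = A.v.left := congrArg CommaMorphism.left hw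
    show w.left ≫ g.left ≫ A.a.left = θ.left
    rw [reassoc_of% h, A.hv], F.obj.map g.op A.σ⟩

theorem inL_res (A : Rep F η θ) {W : S.Etale} (g : W ⟶ A.V) (w : Over.mk η ⟶ (Scheme.Etale.forget S).obj W)
    (hw : (Scheme.pointSmallEtale η).fiber.map g w = A.v) (x : ↥(pullback f η)) :
    (A.res g w hw).InL t x ↔ A.InL t x := by
  rw [Rep.InL, Rep.InL]
  dsimp [Rep.res]
  rw [ok_map, Set.mem_preimage, ← hw, ← mP_map, Scheme.Hom.comp_apply]

variable (f) in
/-- the image of a point of the fibre -/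
theorem fst_mP (V : S.Etale) (v : Over.mk η ⟶ (Scheme.Etale.forget S).obj V) (x : ↥(pullback f η)) :
    pullback.fst V.hom f (mP f η V v x) = v.left (default : Spec (CommRingCat.of Ω)) := by
  refine (Scheme.Hom.comp_apply (mP f η V v) (pullback.fst V.hom f) x).symm.trans ?_
  rw [mP_fst, Scheme.Hom.comp_apply,
    Subsingleton.elim (α := Spec (CommRingCat.of Ω)) (pullback.snd f η x) default]
  rfl

theorem gm_eq_iff_inL {A B : Rep F η θ} {x : ↥(pullback f η)} (ha : A.InL t x) :
    gm η F A.V A.v A.σ = gm η F B.V B.v B.σ ↔ B.InL t x := by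
  obtain ⟨W₁, w₁, g₁, g₂, hg₁, hg₂⟩ := exists_common η A.v B.v
  -- make the two maps to `V₀` agree
  obtain ⟨Q, e, e', hcomm, hQ⟩ : ∃ (Q : S.Etale) (e : Q ⟶ W₁) (q : Over.mk η ⟶ (Scheme.Etale.forget S).obj Q),
      e ≫ g₁ ≫ A.a = e ≫ g₂ ≫ B.a ∧ (Scheme.pointSmallEtale η).fiber.map e q = w₁ := by
    haveI := (Scheme.pointSmallEtale η).isCofiltered
    let e₁ : (Scheme.pointSmallEtale η).fiber.Elements := ⟨W₁, w₁⟩
    let e₀ : (Scheme.pointSmallEtale η).fiber.Elements := ⟨V₀, θ⟩
    have h1 : w₁.left ≫ g₁.left = A.v.left := congrArg CommaMorphism.left hg₁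
    have h2 : w₁.left ≫ g₂.left = B.v.left := congrArg CommaMorphism.left hg₂
    let m₁ : e₁ ⟶ e₀ := ⟨g₁ ≫ A.a, Over.OverMorphism.ext (by
      show w₁.left ≫ g₁.left ≫ A.a.left = θ.left
      rw [reassoc_of% h1, A.hv])⟩
    let m₂ : e₁ ⟶ e₀ := ⟨g₂ ≫ B.a, Over.OverMorphism.ext (by
      show w₁.left ≫ g₂.left ≫ B.a.left = θ.left
      rw [reassoc_of% h2, B.hv])⟩
    obtain ⟨q, m, hm⟩ := IsCofilteredOrEmpty.cone_maps m₁ m₂
    exact ⟨q.1, m.1, q.2, congrArg Subtype.val hm, m.2⟩
  have hA : (Scheme.pointSmallEtale η).fiber.map (e ≫ g₁) e' = A.v := by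
    rw [Functor.map_comp_apply, hQ, hg₁]
  have hB : (Scheme.pointSmallEtale η).fiber.map (e ≫ g₂) e' = B.v := by
    rw [Functor.map_comp_apply, hQ, hg₂]
  have ha' := (inL_res t A (e ≫ g₁) e' hA x).mpr ha
  rw [← inL_res t B (e ≫ g₂) e' hB x, ← hA, ← hB, ← gm_map, ← gm_map, gm_eq_iff, ← fst_mP f Q e' x,
    ← mem_eqLoc_unit f F Q]
  simp only [Rep.InL, Rep.res, ok, Category.assoc] at ha' ⊢
  rw [← hcomm]
  exact ⟨fun h => eqLoc_trans ha' h, fun h => eqLoc_trans (eqLoc_symm ha') h⟩

variable (η θ) in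
theorem exists_inL (x : ↥(pullback f η)) : ∃ A : Rep F η θ, A.InL t x := by
  -- a geometric point of `X ×_S V₀` at the image of `x`
  let x'' : ((EtCoh.bc f).obj V₀).left := mP f η V₀ θ x
  obtain ⟨K, _, _, κ, -, hκ⟩ := Groth.Agent.EtStalk.covers_all (X := ((EtCoh.bc f).obj V₀).left) x''
  let ξ : Spec (CommRingCat.of K) ⟶ X := κ ≫ pullback.snd V₀.hom f
  let v₀ : Over.mk (ξ ≫ f) ⟶ (Scheme.Etale.forget S).obj V₀ := Over.homMk (κ ≫ pullback.fst V₀.hom f) (by
    change (κ ≫ pullback.fst V₀.hom f) ≫ V₀.hom = (κ ≫ pullback.snd V₀.hom f) ≫ f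
    rw [Category.assoc, Category.assoc, pullback.condition])
  have hup₀ : (EtPushStalk.up f ξ v₀).left = κ := by
    change pullback.lift v₀.left ξ _ = κ
    apply pullback.hom_ext
    · rw [pullback.lift_fst]; rfl
    · rw [pullback.lift_snd]
  obtain ⟨γ, hγ, hγg⟩ := exists_pullGerm f ξ (ξ ≫ f) rfl F
  obtain ⟨z, hz⟩ := hγ.2 (gm ξ ((EtDesc.pullSh f).obj F) ((EtCoh.bc f).obj V₀) (EtPushStalk.up f ξ v₀) t)
  obtain ⟨V', v', σ', rfl⟩ := gm_surjective (G := F) (ξ ≫ f) z
  obtain ⟨V, v, c, a, hc', ha⟩ := exists_common (ξ ≫ f) v' v₀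
  let σ : EtDesc.sect F V := F.obj.map c.op σ'
  rw [← hc', ← gm_map] at hz
  have hq0 := (hγg V v σ).symm.trans hz
  let w := EtPushStalk.up f ξ v
  have hw : (Scheme.pointSmallEtale ξ).fiber.map ((EtCoh.bc f).map a) w = EtPushStalk.up f ξ v₀ := by
    refine (EtPushStalk.up_map f ξ a v).trans (congrArg _ ?_)
    exact ha
  rw [← hw, ← gm_map] at hq0
  let q : ((EtCoh.bc f).obj V).left := (w.left : Spec (CommRingCat.of K) ⟶ _) (default : Spec (CommRingCat.of K))
  have hq : q ∈ ok t V a σ := (gm_eq_iff _ _ _ _).mp hq0.symm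
  have hqx : ((EtCoh.bc f).map a).left q = x'' := by
    have e : w.left ≫ ((EtCoh.bc f).map a).left = κ := (congrArg CommaMorphism.left hw).trans hup₀
    refine (Scheme.Hom.comp_apply w.left ((EtCoh.bc f).map a).left (default : Spec (CommRingCat.of K))).symm.trans ?_
    exact (congr($e (default : Spec (CommRingCat.of K)))).trans hκ
  haveI := etale_left a
  haveI : AlgebraicGeometry.Etale (pullback.snd a.left θ.left) := inferInstance
  obtain ⟨r, hrx, hrq⟩ := Scheme.Pullback.exists_preimage_pullback (f := mP f η V₀ θ)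
    (g := ((EtCoh.bc f).map a).left) x q hqx.symm
  let R := pullback (mP f η V₀ θ) ((EtCoh.bc f).map a).left
  let e : R ⟶ pullback a.left θ.left := pullback.lift (pullback.snd _ _ ≫ pullback.fst V.hom f)
    (pullback.fst _ _ ≫ pullback.snd f η) (by
      rw [Category.assoc, Category.assoc, ← bc_map_fst, ← mP_fst, ← pullback.condition_assoc])
  let E : (Spec (CommRingCat.of Ω)).Etale := Scheme.Etale.mk (pullback.snd a.left θ.left)
  obtain ⟨l, hl⟩ := Scheme.pointSmallEtaleFiberObjToPreimage_surjective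
    (𝟙 (Spec (CommRingCat.of Ω))) (s₀ := default) (Subsingleton.elim (α := Spec (CommRingCat.of Ω)) _ _) E
    ⟨e r, Subsingleton.elim (α := Spec (CommRingCat.of Ω)) _ _⟩
  let l' : Over.mk (𝟙 (Spec (CommRingCat.of Ω))) ⟶ Over.mk (pullback.snd a.left θ.left) := l
  let s' : Spec (CommRingCat.of Ω) ⟶ pullback a.left θ.left := l'.left
  have hs' : s' ≫ pullback.snd a.left θ.left = 𝟙 _ := Over.w l'
  have hs'r : s' (default : Spec (CommRingCat.of Ω)) = e r := congrArg Subtype.val hl
  have hsa : (s' ≫ pullback.fst a.left θ.left) ≫ a.left = θ.left := by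
    rw [Category.assoc, pullback.condition, reassoc_of% hs']
  let vη : Over.mk η ⟶ (Scheme.Etale.forget S).obj V := Over.homMk (s' ≫ pullback.fst a.left θ.left) (by
    change (s' ≫ pullback.fst a.left θ.left) ≫ V.hom = η
    rw [← MorphismProperty.Over.w a, ← Category.assoc]
    exact (congrArg (· ≫ V₀.hom) hsa).trans (Over.w θ))
  refine ⟨⟨V, a, vη, hsa, σ⟩, ?_⟩
  show mP f η V vη x ∈ ok t V a σ
  suffices mP f η V vη x = q by rw [this]; exact hq
  obtain ⟨z, hz1, -⟩ := Scheme.Pullback.exists_preimage_pullback (f := e) (g := s') r default hs'r.symm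
  let k : pullback e s' ⟶ pullback f η := pullback.fst e s' ≫ pullback.fst _ _
  have hk : k ≫ pullback.snd f η = pullback.snd e s' := by
    have : pullback.fst e s' ≫ e ≫ pullback.snd a.left θ.left = pullback.snd e s' := by
      rw [pullback.condition_assoc, hs', Category.comp_id]
    rw [← this, pullback.lift_snd, Category.assoc]
  have hm : k ≫ mP f η V vη = pullback.fst e s' ≫ pullback.snd _ _ := by
    apply pullback.hom_ext
    · rw [Category.assoc, mP, pullback.lift_fst, reassoc_of% hk, Category.assoc]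
      show pullback.snd e s' ≫ s' ≫ pullback.fst a.left θ.left = _
      rw [← pullback.condition_assoc, pullback.lift_fst]
    · rw [Category.assoc, mP, pullback.lift_snd, Category.assoc, Category.assoc]
      refine congrArg (pullback.fst e s' ≫ ·) ?_
      refine Eq.trans ?_ (congrArg (pullback.snd (mP f η V₀ θ) ((EtCoh.bc f).map a).left ≫ ·) (bc_map_snd f a))
      rw [← pullback.condition_assoc]
      exact congrArg (pullback.fst _ _ ≫ ·) (pullback.lift_snd _ _ _).symm
  have hkz : k z = x := by rw [Scheme.Hom.comp_apply, hz1, hrx]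
  rw [← hkz, ← Scheme.Hom.comp_apply, hm, Scheme.Hom.comp_apply, hz1]; exact hrq

theorem inL_of_connected [ConnectedSpace ↥(pullback f η)] (A : Rep F η θ) {x₀ : ↥(pullback f η)}
    (h : A.InL t x₀) (x : ↥(pullback f η)) : A.InL t x := by
  have hcl : IsClosed {x | A.InL t x} := by
    refine ⟨isOpen_iff_forall_mem_open.mpr fun y hy => ?_⟩
    obtain ⟨B, hB⟩ := exists_inL t η θ y
    refine ⟨{x | B.InL t x}, fun z hz hzA => hy ?_, isOpen_inL t B, hB⟩
    exact (gm_eq_iff_inL t hB).mp ((gm_eq_iff_inL t hz).mpr hzA)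
  have := (isClopen_iff.mp ⟨hcl, isOpen_inL t A⟩).resolve_left (Set.nonempty_iff_ne_empty.mp ⟨x₀, h⟩)
  exact this.ge (Set.mem_univ x)

omit η θ in
/-- pulling back along a universally submersive morphism with connected geometric fibres does not change sections -/
theorem bijective_unitSect (f : X ⟶ S)
    (hsub : ∀ (S' : Scheme.{u}) (g : S' ⟶ S), Topology.IsQuotientMap (pullback.snd f g))
    (hc : ∀ (Ω : Type u) [Field Ω] [IsAlgClosed Ω] (s : Spec (CommRingCat.of Ω) ⟶ S), ConnectedSpace ↥(pullback f s))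
    (F : EtDesc.Sh S) (V₀ : S.Etale) : Function.Bijective (unitSect f F V₀) := by
  have hsurj : ∀ V : S.Etale, Function.Surjective (pullback.fst V.hom f : ((EtCoh.bc f).obj V).left ⟶ V.left) := by
    intro V y
    obtain ⟨z, hz⟩ := (hsub V.left V.hom).surjective y
    refine ⟨(pullbackSymmetry f V.hom).hom z, ?_⟩
    refine (Scheme.Hom.comp_apply (pullbackSymmetry f V.hom).hom (pullback.fst V.hom f) z).symm.trans ?_
    rwa [pullbackSymmetry_hom_comp_fst]
  have hinj : ∀ V : S.Etale, Function.Injective (unitSect f F V) := by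
    intro V σ σ' hσ
    refine eq_of_eqLoc fun y => ?_
    obtain ⟨p, rfl⟩ := hsurj V y
    refine (mem_eqLoc_unit f F V σ σ' p).mp ?_
    rw [hσ, eqLoc_self]
    trivial
  refine ⟨hinj _, fun t => ?_⟩
  have hloc : ∀ s : V₀.left, ∃ (W : S.Etale) (π : W ⟶ V₀) (σ : EtDesc.sect F W), s ∈ Set.range π.left ∧
      ((EtDesc.pullSh f).obj F).obj.map ((EtCoh.bc f).map π).op t = unitSect f F W σ := by
    intro s
    obtain ⟨Ω, _, _, θ₀, hθ₀⟩ := Groth.Agent.FEtRank.exists_geomPt s
    let η := θ₀ ≫ V₀.hom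
    haveI := hc Ω η
    let θ : Over.mk η ⟶ (Scheme.Etale.forget S).obj V₀ := Over.homMk θ₀ rfl
    obtain ⟨x₀⟩ := (inferInstance : Nonempty ↥(pullback f η))
    obtain ⟨A, hA⟩ := exists_inL t η θ x₀
    let U := ((EtCoh.bc f).obj A.V).left
    let pV : U ⟶ A.V.left := pullback.fst A.V.hom f
    let L : Set U := ok t A.V A.a A.σ
    have hsat : pV ⁻¹' (pV '' L) = L := by
      refine Set.Subset.antisymm ?_ (Set.subset_preimage_image _ _)
      rintro q ⟨q₀, hq₀, hqq⟩
      obtain ⟨K, _, _, ρ, hρ⟩ := Groth.Agent.FEtRank.exists_geomPt (pV q)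
      let η' := ρ ≫ A.V.hom
      haveI := hc K η'
      let θ' : Over.mk η' ⟶ (Scheme.Etale.forget S).obj V₀ := Over.homMk (ρ ≫ A.a.left) (by
        change (ρ ≫ A.a.left) ≫ V₀.hom = η'
        rw [Category.assoc, MorphismProperty.Over.w A.a])
      let v' : Over.mk η' ⟶ (Scheme.Etale.forget S).obj A.V := Over.homMk ρ rfl
      let B : Rep F η' θ' := ⟨A.V, A.a, v', rfl, A.σ⟩
      have hlift : ∀ p : U, pV p = pV q → ∃ x, mP f η' A.V v' x = p := by
        intro p hp
        obtain ⟨w, hw1, -⟩ := Scheme.Pullback.exists_preimage_pullback (f := pV) (g := ρ) p _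
          (hp.trans hρ.symm)
        refine ⟨pullback.lift (pullback.fst pV ρ ≫ pullback.snd A.V.hom f) (pullback.snd pV ρ) ?_ w, ?_⟩
        · rw [Category.assoc, ← pullback.condition, pullback.condition_assoc]
        · rw [← Scheme.Hom.comp_apply]
          have e : pullback.lift (pullback.fst pV ρ ≫ pullback.snd A.V.hom f) (pullback.snd pV ρ) (by
              rw [Category.assoc, ← pullback.condition, pullback.condition_assoc]) ≫ mP f η' A.V v' =
              pullback.fst pV ρ := by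
            apply pullback.hom_ext
            · rw [Category.assoc, mP, pullback.lift_fst, pullback.lift_snd_assoc]
              exact pullback.condition.symm
            · rw [Category.assoc, mP, pullback.lift_snd, pullback.lift_fst]
          rw [e, hw1]
      obtain ⟨x₁, hx₁⟩ := hlift q₀ hqq
      obtain ⟨x₂, hx₂⟩ := hlift q rfl
      have := inL_of_connected t B (x₀ := x₁) (show mP f η' A.V v' x₁ ∈ _ by rw [hx₁]; exact hq₀) x₂
      rw [← hx₂]
      exact this
    have hO : IsOpen (pV '' L) := by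
      refine (hsub A.V.left A.V.hom).isOpen_preimage.mp ?_
      have e : pullback.snd f A.V.hom = (pullbackSymmetry f A.V.hom).hom ≫ pV := (pullbackSymmetry_hom_comp_fst _ _).symm
      have hpre : (pullback.snd f A.V.hom : _ → A.V.left) ⁻¹' (pV '' L) =
          (pullbackSymmetry f A.V.hom).hom ⁻¹' (pV ⁻¹' (pV '' L)) := by rw [e]; rfl
      refine (congrArg IsOpen (hpre.trans (congrArg _ hsat))).mpr ?_
      exact (isOpen_eqLoc _ _).preimage (pullbackSymmetry f A.V.hom).hom.continuous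
    let O : A.V.left.Opens := ⟨_, hO⟩
    haveI := A.V.prop
    let W : S.Etale := Scheme.Etale.mk (Scheme.Opens.ι O ≫ A.V.hom)
    let g : W ⟶ A.V := MorphismProperty.Over.homMk (Scheme.Opens.ι O) rfl
    refine ⟨W, g ≫ A.a, F.obj.map g.op A.σ, ?_, ?_⟩
    · have hvO : pV (mP f η A.V A.v x₀) ∈ pV '' L := ⟨_, hA, rfl⟩
      erw [fst_mP] at hvO
      obtain ⟨o, ho⟩ := (Scheme.Opens.range_ι O).ge hvO
      refine ⟨o, ?_⟩
      show (Scheme.Opens.ι O ≫ A.a.left) o = s
      rw [Scheme.Hom.comp_apply, ho]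
      refine (Scheme.Hom.comp_apply A.v.left A.a.left (default : Spec (CommRingCat.of Ω))).symm.trans ?_
      rw [A.hv]
      exact (congrArg θ₀ (Subsingleton.elim (α := Spec (CommRingCat.of Ω)) _ _)).trans hθ₀
    · refine eq_of_eqLoc fun p => ?_
      show p ∈ ok t W (g ≫ A.a) (F.obj.map g.op A.σ)
      rw [ok_map]
      have h1 : pV (((EtCoh.bc f).map g).left p) ∈ pV '' L := by
        rw [← Scheme.Hom.comp_apply]
        rw [show ((EtCoh.bc f).map g).left ≫ pV = pullback.fst W.hom f ≫ Scheme.Opens.ι O from bc_map_fst f g]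
        rw [Scheme.Hom.comp_apply]
        exact (Scheme.Opens.range_ι O).le ⟨_, rfl⟩
      exact hsat.le h1
  choose W π σ hW hσ using hloc
  obtain ⟨g, hg⟩ := exists_amalg (G := F) W π (fun s => ⟨s, hW s⟩) σ
    (fun i k T a b hab => by
      refine hinj T ?_
      rw [unitSect_map, unitSect_map, ← hσ, ← hσ, map_map, map_map, ← Functor.map_comp, ← Functor.map_comp, hab])
  refine ⟨g, eq_of_eqLoc fun p => ?_⟩
  obtain ⟨w, hw⟩ := hW (pullback.fst V₀.hom f p)
  obtain ⟨p', hp', -⟩ := Scheme.exists_preimage_of_isPullback (EtCoh.isPullback_bc_map f (π _)) p w hw.symm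
  refine ⟨_, (EtCoh.bc f).map (π _), ⟨p', hp'⟩, ?_⟩
  rw [← unitSect_map, hg, hσ]

theorem isUnivQuot_prj {X Y : Scheme.{u}} (g : X ⟶ Y)
    (hsub : ∀ (S' : Scheme.{u}) (t : S' ⟶ Y), Topology.IsQuotientMap (pullback.snd g t)) (V : Y.Etale)
    (S' : Scheme.{u}) (t : S' ⟶ V.left) : Topology.IsQuotientMap (pullback.snd (EtAcyc.prj g V) t) := by
  have h : IsPullback (pullback.fst (EtAcyc.prj g V) t ≫ pullback.snd V.hom g) (pullback.snd (EtAcyc.prj g V) t)
      g (t ≫ V.hom) :=
    (IsPullback.of_hasPullback (EtAcyc.prj g V) t).paste_horiz (IsPullback.of_hasPullback V.hom g).flip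
  have e : pullback.snd (EtAcyc.prj g V) t = h.isoPullback.hom ≫ pullback.snd g (t ≫ V.hom) :=
    h.isoPullback_hom_snd.symm
  rw [e]
  exact (hsub S' (t ≫ V.hom)).comp h.isoPullback.hom.homeomorph.isQuotientMap

theorem connectedSpace_prj {X Y : Scheme.{u}} (g : X ⟶ Y)
    (hc : ∀ (Ω : Type u) [Field Ω] [IsAlgClosed Ω] (s : Spec (CommRingCat.of Ω) ⟶ Y), ConnectedSpace ↥(pullback g s))
    (V : Y.Etale) (Ω : Type u) [Field Ω] [IsAlgClosed Ω] (s : Spec (CommRingCat.of Ω) ⟶ V.left) :
    ConnectedSpace ↥(pullback (EtAcyc.prj g V) s) := by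
  have h : IsPullback (pullback.fst (EtAcyc.prj g V) s ≫ pullback.snd V.hom g) (pullback.snd (EtAcyc.prj g V) s)
      g (s ≫ V.hom) :=
    (IsPullback.of_hasPullback (EtAcyc.prj g V) s).paste_horiz (IsPullback.of_hasPullback V.hom g).flip
  haveI := hc Ω (s ≫ V.hom)
  exact (h.isoPullback.inv.homeomorph.surjective.connectedSpace h.isoPullback.inv.homeomorph.continuous)

/-- universally submersive with connected geometric fibres: units are isomorphisms -/
theorem isIso_unit (f : X ⟶ S)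
    (hsub : ∀ (S' : Scheme.{u}) (g : S' ⟶ S), Topology.IsQuotientMap (pullback.snd f g))
    (hc : ∀ (Ω : Type u) [Field Ω] [IsAlgClosed Ω] (s : Spec (CommRingCat.of Ω) ⟶ S), ConnectedSpace ↥(pullback f s))
    (F : EtDesc.Sh S) : IsIso ((EtDesc.adjSh f).unit.app F) := by
  haveI : ∀ U : S.Etaleᵒᵖ, IsIso (((EtDesc.adjSh f).unit.app F).hom.app U) := fun U =>
    (isIso_iff_bijective _).mpr (bijective_unitSect f hsub hc F U.unop)
  haveI : IsIso ((sheafToPresheaf S.smallEtaleTopology (Type (u + 1))).map ((EtDesc.adjSh f).unit.app F)) :=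
    NatIso.isIso_of_isIso_app (((EtDesc.adjSh f).unit.app F).hom)
  exact (fullyFaithfulSheafToPresheaf _ _).isIso_of_isIso_map _

/-- universally submersive with connected geometric fibres implies 0-acyclic -/
theorem isZeroAcyclic_of_connected (g : X ⟶ S)
    (hsub : ∀ (S' : Scheme.{u}) (t : S' ⟶ S), Topology.IsQuotientMap (pullback.snd g t))
    (hc : ∀ (Ω : Type u) [Field Ω] [IsAlgClosed Ω] (s : Spec (CommRingCat.of Ω) ⟶ S), ConnectedSpace ↥(pullback g s)) :
    EtAcyc.IsZeroAcyclic g := fun V F =>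
  isIso_unit (EtAcyc.prj g V) (fun S' t => isUnivQuot_prj g hsub V S' t)
    (fun Ω _ _ s => connectedSpace_prj g hc V Ω s) F

end Groth.Agent.EtShLib
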