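import Groth.Agent.S0164
import Mathlib

/-!
Extension of a separably closed ground field: universally submersive with connected geometric fibres.
-/

set_option autoImplicit false
set_option backward.isDefEq.respectTransparency false
set_option maxHeartbeats 1000000
set_option linter.style.haveILetI false

universe u

open CategoryTheory CategoryTheory.Limits AlgebraicGeometry

noncomputable section

namespace Groth.Agent.EtShLib

/-- faithfully flat quasi-compact morphisms are universally submersive -/
theorem isQuotientMap_snd_of_flat {X S : Scheme.{u}} (f : X ⟶ S) [Flat f] [QuasiCompact f] [Surjective f]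
    (S' : Scheme.{u}) (g : S' ⟶ S) : Topology.IsQuotientMap (pullback.snd f g) :=
  Flat.isQuotientMap_of_surjective _

/-- geometric fibres of a base change from fibres over geometric points of the base -/
theorem connectedSpace_fst_of {S T B : Scheme.{u}} (a : S ⟶ B) (g : T ⟶ B) {Ω : Type u} [Field Ω]
    (s : Spec (CommRingCat.of Ω) ⟶ S) (h : ConnectedSpace ↥(pullback g (s ≫ a))) :
    ConnectedSpace ↥(pullback (pullback.fst a g) s) := by
  have hP : IsPullback (pullback.fst (pullback.fst a g) s ≫ pullback.snd a g) (pullback.snd (pullback.fst a g) s)
      g (s ≫ a) :=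
    (IsPullback.of_hasPullback (pullback.fst a g) s).paste_horiz (IsPullback.of_hasPullback a g).flip
  exact hP.isoPullback.hom.homeomorph.connectedSpace_iff.mpr h

/-- a field extension of a separably closed field has connected geometric fibres -/
theorem connectedSpace_field_ext {k K : Type u} [Field k] [IsSepClosed k] [Field K] [Algebra k K]
    {Ω : Type u} [Field Ω] (s : Spec (CommRingCat.of Ω) ⟶ Spec (CommRingCat.of k)) :
    ConnectedSpace ↥(pullback (Spec.map (CommRingCat.ofHom (algebraMap k K))) s) := by
  obtain ⟨φ, hφ⟩ := Spec.map_surjective s
  letI : Algebra k Ω := φ.hom.toAlgebra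
  haveI : ConnectedSpace ↥(Spec (CommRingCat.of K)) := S0164.connected_spec_local K
  rw [← hφ]
  exact S0164.connected_pullback (Spec.map (CommRingCat.ofHom (algebraMap k K))) Ω

end Groth.Agent.EtShLib
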