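import Groth.Agent.EtAcycX.LAChange
import Groth.Agent.EtBCQ.DegZero
import Groth.Agent.Hensel.TensorFinite
import Groth.Agent.Hensel.Branches
import Groth.Agent.Hensel.HenselizationMore
import Groth.Agent.GeomProp.NormalColim
import Groth.Agent.GRingCpl.ConnFibre
import Groth.Agent.S1182
import Groth.Agent.EtShLib.ConnFib
import Groth.Agent.EtShLib.FieldExt
import Mathlib

/-!
Maps of strict localisations of smooth morphisms have connected geometric fibres.
-/

set_option autoImplicit false
set_option backward.isDefEq.respectTransparency false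
set_option backward.isDefEq.respectTransparency.types false
set_option linter.unusedSectionVars false
set_option linter.overlappingInstances false
set_option linter.style.haveILetI false
set_option maxHeartbeats 1000000

universe u

open CategoryTheory CategoryTheory.Limits AlgebraicGeometry Opposite IsLocalRing
open scoped TensorProduct

noncomputable section

namespace Groth.Agent.EtShLib

/-- a strictly henselian local ring is the strict localisation of its closed point -/
theorem exists_self_SH (R : Type u) [CommRing R] [HenselianLocalRing R] [IsSepClosed (ResidueField R)] :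
    ∃ (Q : EtBCQ.SH (Spec (CommRingCat.of R)) (closedPoint R)) (e : R ≃+* Q.R),
      Spec.map (CommRingCat.ofHom e.toRingHom) = Q.spec := by
  let ε := stalkClosedPointIso (CommRingCat.of R)
  letI : Algebra ((Spec (CommRingCat.of R)).presheaf.stalk (closedPoint R)) R := ε.hom.hom.toAlgebra
  have hb : Function.Bijective (algebraMap ((Spec (CommRingCat.of R)).presheaf.stalk (closedPoint R)) R) :=
    (ConcreteCategory.isIso_iff_bijective ε.hom).1 inferInstance
  haveI : IsLocalHom (algebraMap ((Spec (CommRingCat.of R)).presheaf.stalk (closedPoint R)) R) := ⟨fun a ha => by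
    have h := ha.map (RingEquiv.ofBijective _ hb).symm
    rwa [show (RingEquiv.ofBijective _ hb).symm (algebraMap _ R a) = a from
      (RingEquiv.ofBijective _ hb).symm_apply_apply a] at h⟩
  haveI := Hensel.isStrictHenselization_of_bijective hb
  refine ⟨{ R := R }, RingEquiv.refl R, ?_⟩
  show Spec.map (𝟙 _) = Spec.map ε.hom ≫ (Spec (CommRingCat.of R)).fromSpecStalk (closedPoint R)
  rw [← Spec_stalkClosedPointIso, ← Spec.map_comp, ε.inv_hom_id]

/-- stalks of a scheme smooth over a normal domain are normal domains -/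
theorem isNormalDomain_stalk {A : Type u} [CommRing A] [IsDomain A] [IsIntegrallyClosed A] {X : Scheme.{u}}
    (f : X ⟶ Spec (CommRingCat.of A)) [Smooth f] (x : X) :
    IsDomain (X.presheaf.stalk x) ∧ IsIntegrallyClosed (X.presheaf.stalk x) := by
  obtain ⟨U, hU, hx, -⟩ := exists_isAffineOpen_mem_and_subset (x := x) (U := ⊤) trivial
  let V : (Spec (CommRingCat.of A)).Opens := ⊤
  have hV : IsAffineOpen V := isAffineOpen_top _
  letI : Algebra Γ(Spec (CommRingCat.of A), V) Γ(X, U) := (f.appLE V U le_top).hom.toAlgebra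
  haveI : Algebra.Smooth Γ(Spec (CommRingCat.of A), V) Γ(X, U) := Smooth.smooth_appLE f hV hU le_top
  let ε : A ≃+* Γ(Spec (CommRingCat.of A), V) := (Scheme.ΓSpecIso (CommRingCat.of A)).symm.commRingCatIsoToRingEquiv
  haveI : IsDomain Γ(Spec (CommRingCat.of A), V) := ε.symm.injective.isDomain
  haveI : IsIntegrallyClosed Γ(Spec (CommRingCat.of A), V) := IsIntegrallyClosed.of_equiv ε
  have hn := (S1182.result Γ(Spec (CommRingCat.of A), V) Γ(X, U)).1 (GeomProp.isNormalRing_of_domain _)
  let q := hU.primeIdealOf ⟨x, hx⟩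
  letI := TopCat.Presheaf.algebra_section_stalk X.presheaf ⟨x, hx⟩
  haveI := hU.isLocalization_stalk ⟨x, hx⟩
  let e := IsLocalization.algEquiv q.asIdeal.primeCompl (Localization.AtPrime q.asIdeal) (X.presheaf.stalk x)
  obtain ⟨hd, hic⟩ := hn q.asIdeal
  exact ⟨e.symm.toRingEquiv.injective.isDomain, IsIntegrallyClosed.of_equiv e.toRingEquiv⟩

/-- the tensor product with an integral local extension is not zero -/
theorem nontrivial_tensor (R B D : Type u) [CommRing R] [IsLocalRing R] [CommRing B] [IsLocalRing B] [CommRing D]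
    [IsLocalRing D] [Algebra R B] [IsLocalHom (algebraMap R B)] [Algebra R D] [IsLocalHom (algebraMap R D)] :
    Nontrivial (B ⊗[R] D) := by
  let k := ResidueField R
  haveI : Nontrivial (ResidueField B ⊗[k] ResidueField D) :=
    TensorProduct.nontrivial_of_linearMap_injective_of_flat_right k (ResidueField B) (ResidueField D)
      (Algebra.linearMap k (ResidueField B)) (algebraMap k (ResidueField B)).injective
  let a : B →ₐ[R] ResidueField B ⊗[k] ResidueField D :=
    ((Algebra.TensorProduct.includeLeft : ResidueField B →ₐ[k] ResidueField B ⊗[k] ResidueField D).restrictScalars R).comp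
      (IsScalarTower.toAlgHom R B (ResidueField B))
  let b : D →ₐ[R] ResidueField B ⊗[k] ResidueField D :=
    ((Algebra.TensorProduct.includeRight : ResidueField D →ₐ[k] ResidueField B ⊗[k] ResidueField D).restrictScalars R).comp
      (IsScalarTower.toAlgHom R D (ResidueField D))
  exact (Algebra.TensorProduct.lift a b fun _ _ => .all _ _).toRingHom.domain_nontrivial

/-- transported self strict localisation -/
theorem exists_self_SH' (R : Type u) [CommRing R] [HenselianLocalRing R] [IsSepClosed (ResidueField R)]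
    (y : Spec (CommRingCat.of R)) (hy : y = closedPoint R) :
    ∃ (Q : EtBCQ.SH (Spec (CommRingCat.of R)) y) (e : R ≃+* Q.R),
      Spec.map (CommRingCat.ofHom e.toRingHom) = Q.spec := by
  subst hy
  exact exists_self_SH R

/-- strict localisation after base change to an integral normal domain over the strict localisation of the base -/
theorem isDomain_tensor_normal {X S : Scheme.{u}} (g : X ⟶ S) [Smooth g] {x : X} (QX : EtBCQ.SH X x) {y : S}
    (QY : EtBCQ.SH S y) [Algebra QY.R QX.R] [IsLocalHom (algebraMap QY.R QX.R)]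
    (hX : Spec.map (CommRingCat.ofHom (algebraMap QY.R QX.R)) ≫ QY.spec = QX.spec ≫ g)
    (A' : Type u) [CommRing A'] [HenselianLocalRing A'] [IsDomain A'] [IsIntegrallyClosed A']
    [IsSepClosed (ResidueField A')] [Algebra QY.R A'] [Algebra.IsIntegral QY.R A']
    [IsLocalHom (algebraMap QY.R A')] :
    IsDomain (QX.R ⊗[QY.R] A') := by
  let R := QY.R
  let g' : Spec (CommRingCat.of A') ⟶ S := Spec.map (CommRingCat.ofHom (algebraMap R A')) ≫ QY.spec
  let C := QX.R ⊗[R] A'
  haveI : Nontrivial C := nontrivial_tensor R QX.R A'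
  haveI : IsLocalRing C := EtAcycX.isLocalRing_tensor R QX.R A'
  haveI : Algebra.IsIntegral QX.R C := inferInstance
  haveI : HenselianLocalRing C := Hensel.henselianLocalRing_finite QX.R C
  let iL : QX.R →+* C := algebraMap QX.R C
  let iR : A' →+* C := (Algebra.TensorProduct.includeRight : A' →ₐ[R] C).toRingHom
  haveI : IsLocalHom iL := by
    refine ((local_hom_TFAE iL).out 0 4).2 ?_
    exact eq_maximalIdeal (Ideal.isMaximal_comap_of_isIntegral_of_isMaximal (R := QX.R) (maximalIdeal C))
  haveI : IsLocalHom iR := by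
    refine ((local_hom_TFAE iR).out 0 4).2 ?_
    haveI : ((maximalIdeal C).comap iR).IsPrime := Ideal.IsPrime.comap _
    refine eq_maximalIdeal (Ideal.isMaximal_of_isIntegral_of_isMaximal_comap (R := R) _ ?_)
    have hc : iR.comp (algebraMap R A') = iL.comp (algebraMap R QX.R) := RingHom.ext fun r => by
      show (1 : QX.R) ⊗ₜ[R] algebraMap R A' r = algebraMap R QX.R r ⊗ₜ 1
      rw [← Algebra.TensorProduct.algebraMap_apply', Algebra.TensorProduct.algebraMap_apply]
    haveI : IsLocalHom (iL.comp (algebraMap R QX.R)) := RingHom.isLocalHom_comp _ _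
    rw [Ideal.comap_comap, hc, maximalIdeal_comap]
    infer_instance
  have hiLR : iL.comp (algebraMap R QX.R) = iR.comp (algebraMap R A') := RingHom.ext fun r => by
    show algebraMap R QX.R r ⊗ₜ[R] (1 : A') = 1 ⊗ₜ algebraMap R A' r
    rw [← Algebra.TensorProduct.algebraMap_apply, Algebra.TensorProduct.algebraMap_apply']
  haveI : IsSepClosed (ResidueField C) := by
    haveI : Algebra.IsIntegral QX.R (ResidueField C) :=
      Algebra.IsIntegral.of_surjective (IsScalarTower.toAlgHom QX.R C _) residue_surjective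
    haveI : Algebra.IsIntegral (ResidueField QX.R) (ResidueField C) := Algebra.IsIntegral.tower_top QX.R
    haveI : Algebra.IsAlgebraic (ResidueField QX.R) (ResidueField C) := inferInstance
    exact Algebra.IsAlgebraic.isSepClosed (F := ResidueField QX.R)
  have hcond : (Spec.map (CommRingCat.ofHom iL) ≫ QX.spec) ≫ g = Spec.map (CommRingCat.ofHom iR) ≫ g' := by
    refine (Category.assoc _ _ _).trans ((congrArg (Spec.map (CommRingCat.ofHom iL) ≫ ·) hX.symm).trans ?_)
    refine (Category.assoc _ _ _).symm.trans (Eq.trans ?_ (Category.assoc _ _ _))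
    rw [← Spec.map_comp, ← Spec.map_comp, ← CommRingCat.ofHom_comp, ← CommRingCat.ofHom_comp, hiLR]
  let v : Spec (CommRingCat.of C) ⟶ pullback g g' := pullback.lift _ _ hcond
  let x' := v (closedPoint C)
  have hv1 : v ≫ pullback.fst g g' = Spec.map (CommRingCat.ofHom iL) ≫ QX.spec := pullback.lift_fst _ _ _
  have hv2 : v ≫ pullback.snd g g' = Spec.map (CommRingCat.ofHom iR) := pullback.lift_snd _ _ _
  have hx' : (pullback.fst g g') x' = x := by
    refine (Scheme.Hom.comp_apply v (pullback.fst g g') (closedPoint C)).symm.trans ?_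
    rw [hv1, Scheme.Hom.comp_apply, EtBCQ.Spec_closedPoint', QX.spec_closed]
  have hs' : (pullback.snd g g') x' = closedPoint A' := by
    refine (Scheme.Hom.comp_apply v (pullback.snd g g') (closedPoint C)).symm.trans ?_
    rw [hv2, EtBCQ.Spec_closedPoint']
  have hvx : v (closedPoint C) = x' := rfl
  clear_value x'
  subst hx'
  obtain ⟨QS', e, he⟩ := exists_self_SH' A' _ hs'
  let eA' : QS'.R →+* A' := e.symm.toRingHom
  haveI : IsLocalHom eA' := ⟨fun a ha => by
    have h : IsUnit (e (e.symm a)) := ha.map e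
    rwa [e.apply_symm_apply] at h⟩
  have he' : Spec.map (CommRingCat.ofHom eA') ≫ QS'.spec = 𝟙 _ := by
    rw [← he, ← Spec.map_comp, ← CommRingCat.ofHom_comp]
    refine Eq.trans (congrArg Spec.map (CommRingCat.hom_ext (RingHom.ext fun a => ?_))) (Spec.map_id _)
    exact e.symm_apply_apply a
  let QX' := EtBCQ.mkSH (pullback g g') x'
  obtain ⟨χ, hχl, hχ⟩ := EtBCQ.exists_strict_hom QX' v hvx
  haveI := hχl
  obtain ⟨ι, ⟨hι, hχι⟩, -⟩ := EtBCQ.existsUnique_strict QX (B := QX'.R) (C := C) (QX'.spec ≫ pullback.fst g g') iL χ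
    (by rw [← Category.assoc, hχ, hv1])
  haveI : IsLocalHom (iR.comp eA') := RingHom.isLocalHom_comp _ _
  obtain ⟨θ, ⟨hθ, hχθ⟩, -⟩ := EtBCQ.existsUnique_strict QS' (B := QX'.R) (C := C) (QX'.spec ≫ pullback.snd g g')
    (iR.comp eA') χ (by
      rw [← Category.assoc, hχ, hv2, CommRingCat.ofHom_comp, Spec.map_comp, Category.assoc, he', Category.comp_id])
  haveI : IsLocalHom ι := ⟨fun a ha => isUnit_of_map_unit iL a (by rw [← hχι]; exact ha.map χ)⟩
  haveI : IsLocalHom θ := ⟨fun a ha => isUnit_of_map_unit (iR.comp eA') a (by rw [← hχθ]; exact ha.map χ)⟩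
  letI : Algebra R QS'.R := (e.toRingHom.comp (algebraMap R A')).toAlgebra
  let eA : A' ≃ₐ[R] QS'.R := AlgEquiv.ofRingEquiv (f := e) fun _ => rfl
  haveI : IsLocalHom (algebraMap R QS'.R) :=
    ⟨fun a ha => isUnit_of_map_unit (algebraMap R A') a (by
      have h := ha.map eA.symm
      rwa [AlgEquiv.commutes] at h)⟩
  haveI : Algebra.IsIntegral R QS'.R := Algebra.IsIntegral.of_surjective eA.toAlgHom eA.surjective
  have hS : Spec.map (CommRingCat.ofHom (algebraMap R QS'.R)) ≫ QY.spec = QS'.spec ≫ g' := by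
    refine Eq.trans ?_ (congrArg (· ≫ g') he)
    refine Eq.trans ?_ (Category.assoc _ _ _)
    exact congrArg (· ≫ QY.spec) (Spec.map_comp (CommRingCat.ofHom (algebraMap R A')) (CommRingCat.ofHom e.toRingHom))
  have hcomp : ι.comp (algebraMap R QX.R) = θ.comp (algebraMap R QS'.R) := by
    have hw : (Spec.map (CommRingCat.ofHom χ) ≫ QX'.spec ≫ pullback.fst g g' ≫ g) =
        Spec.map (CommRingCat.ofHom (iL.comp (algebraMap R QX.R))) ≫ QY.spec := by
      refine (Category.assoc _ _ _).symm.trans ((congrArg (· ≫ pullback.fst g g' ≫ g) hχ).trans ?_)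
      refine (Category.assoc _ _ _).symm.trans ((congrArg (· ≫ g) hv1).trans ?_)
      refine (Category.assoc _ _ _).trans ((congrArg (Spec.map (CommRingCat.ofHom iL) ≫ ·) hX.symm).trans ?_)
      exact ((congrArg (· ≫ QY.spec) (Spec.map_comp _ _)).trans (Category.assoc _ _ _)).symm
    haveI : IsLocalHom (iL.comp (algebraMap R QX.R)) := RingHom.isLocalHom_comp _ _
    refine (EtBCQ.existsUnique_strict QY (B := QX'.R) (C := C) (QX'.spec ≫ pullback.fst g g' ≫ g)
      (iL.comp (algebraMap R QX.R)) χ hw).unique ⟨?_, ?_⟩ ⟨?_, ?_⟩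
    · rw [CommRingCat.ofHom_comp, Spec.map_comp, Category.assoc, hX]
      exact (Category.assoc _ _ _).symm.trans ((congrArg (· ≫ g) hι).trans (Category.assoc _ _ _))
    · rw [← RingHom.comp_assoc, hχι]
    · rw [CommRingCat.ofHom_comp, Spec.map_comp, Category.assoc, hS]
      refine (Category.assoc _ _ _).symm.trans ((congrArg (· ≫ g') hθ).trans ((Category.assoc _ _ _).trans ?_))
      exact congrArg (QX'.spec ≫ ·) pullback.condition.symm
    · rw [← RingHom.comp_assoc, hχθ, hiLR]
      refine RingHom.ext fun r => ?_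
      show iR (e.symm (e (algebraMap R A' r))) = _
      rw [e.symm_apply_apply]
      rfl
  letI : Algebra R QX'.R := (ι.comp (algebraMap R QX.R)).toAlgebra
  let ιA : QX.R →ₐ[R] QX'.R := { ι with commutes' := fun _ => rfl }
  let θA : QS'.R →ₐ[R] QX'.R := { θ with commutes' := fun r => (RingHom.congr_fun hcomp r).symm }
  let Λ := (Algebra.TensorProduct.lift ιA θA fun _ _ => .all _ _)
  have hΛ : Function.Bijective Λ.toRingHom := EtAcycX.bijective_tensor_strict g g' QX QS' QX' QY.spec hX hS ι θ hι hθ
    Λ.toRingHom (fun b => by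
      show Λ (b ⊗ₜ 1) = ι b
      rw [Algebra.TensorProduct.lift_tmul, map_one, mul_one]
      rfl) (fun d => by
      show Λ (1 ⊗ₜ d) = θ d
      rw [Algebra.TensorProduct.lift_tmul, map_one, one_mul]
      rfl)
  haveI : Smooth (pullback.snd g g') := MorphismProperty.pullback_snd _ _ inferInstance
  obtain ⟨hd, -⟩ := (Hensel.strictHenselization_normal_iff (R := (pullback g g').presheaf.stalk x')
    (S := QX'.R)).2 (isNormalDomain_stalk (pullback.snd g g') x')
  haveI := hd
  let m : QX.R ⊗[R] A' →+* QX'.R :=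
    Λ.toRingHom.comp (Algebra.TensorProduct.congr (AlgEquiv.refl : QX.R ≃ₐ[R] QX.R) eA).toRingEquiv.toRingHom
  have hm : Function.Injective m := hΛ.1.comp (Algebra.TensorProduct.congr (AlgEquiv.refl : QX.R ≃ₐ[R] QX.R) eA).injective
  exact hm.isDomain m

/-- geometric fibres of maps of strict localisations of smooth morphisms are connected -/
theorem connectedSpace_tensor_strict {X S : Scheme.{u}} (g : X ⟶ S) [Smooth g] {x : X} (QX : EtBCQ.SH X x) {y : S}
    (QY : EtBCQ.SH S y) [Algebra QY.R QX.R] [IsLocalHom (algebraMap QY.R QX.R)] [Module.Flat QY.R QX.R]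
    (hX : Spec.map (CommRingCat.ofHom (algebraMap QY.R QX.R)) ≫ QY.spec = QX.spec ≫ g)
    (Ω : Type u) [Field Ω] [IsAlgClosed Ω] [Algebra QY.R Ω] : ConnectedSpace (PrimeSpectrum (QX.R ⊗[QY.R] Ω)) := by
  let R := QY.R
  let p : Ideal R := RingHom.ker (algebraMap R Ω)
  haveI : p.IsPrime := RingHom.ker_isPrime _
  let R₀ := R ⧸ p
  haveI : IsDomain R₀ := inferInstance
  letI : Algebra R₀ Ω := (RingHom.kerLift (algebraMap R Ω)).toAlgebra
  haveI : IsScalarTower R R₀ Ω := IsScalarTower.of_algebraMap_eq fun r => rfl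
  have hinj : Function.Injective (algebraMap R₀ Ω) := RingHom.kerLift_injective (algebraMap R Ω)
  haveI : FaithfulSMul R₀ Ω := (faithfulSMul_iff_algebraMap_injective _ _).2 hinj
  let κ := FractionRing R₀
  letI : Algebra κ Ω := FractionRing.liftAlgebra R₀ Ω
  let L := AlgebraicClosure κ
  letI : Algebra L Ω := (IsAlgClosed.lift : L →ₐ[κ] Ω).toRingHom.toAlgebra
  haveI : IsScalarTower κ L Ω := IsScalarTower.of_algebraMap_eq fun c => ((IsAlgClosed.lift : L →ₐ[κ] Ω).commutes c).symm
  haveI : IsScalarTower R R₀ κ := inferInstance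
  haveI : IsScalarTower R L Ω := IsScalarTower.of_algebraMap_eq fun r => by
    rw [IsScalarTower.algebraMap_apply R κ L, ← IsScalarTower.algebraMap_apply κ L Ω,
      IsScalarTower.algebraMap_apply R R₀ κ, ← IsScalarTower.algebraMap_apply R₀ κ Ω, ← IsScalarTower.algebraMap_apply R R₀ Ω]
  -- the integral closure in `L`
  haveI : Algebra.IsAlgebraic R₀ L := ⟨fun z => (IsFractionRing.isAlgebraic_iff R₀ κ L).mpr (Algebra.IsAlgebraic.isAlgebraic z)⟩
  have hinjL : ∀ z, algebraMap R₀ L z = 0 → z = 0 := fun z hz => by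
    apply hinj
    rw [map_zero, IsScalarTower.algebraMap_apply R₀ κ Ω, IsScalarTower.algebraMap_apply κ L Ω,
      ← IsScalarTower.algebraMap_apply R₀ κ L, hz, map_zero]
  let A' := integralClosure R₀ L
  haveI : IsFractionRing A' L := integralClosure.isFractionRing_of_algebraic hinjL
  haveI : IsIntegrallyClosed A' := (isIntegrallyClosed_iff_isIntegrallyClosedIn L).2 inferInstance
  haveI : HenselianLocalRing R₀ := Hensel.henselianLocalRing_finite R R₀
  haveI : Algebra.IsIntegral R₀ A' := inferInstance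
  haveI : IsLocalRing A' := Hensel.isLocalRing_of_integral_domain R₀ A'
  haveI : Algebra.IsIntegral R A' := Algebra.IsIntegral.trans R₀
  haveI : HenselianLocalRing A' := Hensel.henselianLocalRing_finite R A'
  haveI : IsLocalHom (algebraMap R A') := by
    refine ((local_hom_TFAE (algebraMap R A')).out 0 4).2 ?_
    exact eq_maximalIdeal (Ideal.isMaximal_comap_of_isIntegral_of_isMaximal (R := R) (maximalIdeal A'))
  haveI : IsSepClosed (ResidueField A') := by
    haveI : Algebra.IsIntegral R (ResidueField A') :=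
      Algebra.IsIntegral.of_surjective (IsScalarTower.toAlgHom R A' _) residue_surjective
    haveI : Algebra.IsIntegral (ResidueField R) (ResidueField A') := Algebra.IsIntegral.tower_top R
    haveI : Algebra.IsAlgebraic (ResidueField R) (ResidueField A') := inferInstance
    exact Algebra.IsAlgebraic.isSepClosed (F := ResidueField R)
  haveI hdom : IsDomain (QX.R ⊗[R] A') := isDomain_tensor_normal g QX QY hX A'
  -- the generic fibre of `B ⊗ A'`
  let D := QX.R ⊗[R] L
  let j : QX.R ⊗[R] A' →ₐ[R] D := Algebra.TensorProduct.map (AlgHom.id R QX.R) (IsScalarTower.toAlgHom R A' L)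
  have hj : Function.Injective j := Module.Flat.lTensor_preserves_injective_linearMap
    (IsScalarTower.toAlgHom R A' L).toLinearMap (FaithfulSMul.algebraMap_injective A' L)
  have hfrac : ∀ d : D, ∃ (c : A') (z : QX.R ⊗[R] A'), c ≠ 0 ∧ j (1 ⊗ₜ c) * d = j z := by
    intro d
    induction d using TensorProduct.induction_on with
    | zero => exact ⟨1, 0, one_ne_zero, by simp⟩
    | tmul b l =>
      obtain ⟨a, c, hc, rfl⟩ := IsFractionRing.div_surjective (A := A') l
      refine ⟨c, b ⊗ₜ a, nonZeroDivisors.ne_zero hc, ?_⟩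
      show (1 : QX.R) ⊗ₜ algebraMap A' L c * b ⊗ₜ[R] (algebraMap A' L a / algebraMap A' L c) = b ⊗ₜ algebraMap A' L a
      rw [Algebra.TensorProduct.tmul_mul_tmul, one_mul, mul_div_cancel₀]
      exact fun h => nonZeroDivisors.ne_zero hc ((map_eq_zero_iff _ (FaithfulSMul.algebraMap_injective A' L)).1 h)
    | add a b ha hb =>
      obtain ⟨c, z, hc, hz⟩ := ha
      obtain ⟨c', z', hc', hz'⟩ := hb
      refine ⟨c * c', (1 ⊗ₜ c') * z + (1 ⊗ₜ c) * z', mul_ne_zero hc hc', ?_⟩
      rw [show (1 : QX.R) ⊗ₜ[R] (c * c') = (1 ⊗ₜ c) * (1 ⊗ₜ c') by simp, map_mul, map_add, map_mul, map_mul,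
        ← hz, ← hz']
      ring
  have hunit : ∀ c : A', c ≠ 0 → IsUnit (j (1 ⊗ₜ c)) := fun c hc => by
    show IsUnit ((Algebra.TensorProduct.includeRight : L →ₐ[R] D) (algebraMap A' L c))
    refine (IsUnit.mk0 _ fun h => hc ?_).map _
    exact (map_eq_zero_iff _ (FaithfulSMul.algebraMap_injective A' L)).1 h
  haveI : Nontrivial D := hj.nontrivial
  haveI : NoZeroDivisors D := ⟨fun {a b} hab => by
    obtain ⟨c, z, hc, hz⟩ := hfrac a
    obtain ⟨c', z', hc', hz'⟩ := hfrac b
    have h0 : z * z' = 0 := hj (by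
      rw [map_mul, ← hz, ← hz', map_zero, mul_mul_mul_comm, hab, mul_zero])
    rcases mul_eq_zero.1 h0 with h | h
    · exact Or.inl ((hunit c hc).mul_right_eq_zero.1 (by rw [hz, h, map_zero]))
    · exact Or.inr ((hunit c' hc').mul_right_eq_zero.1 (by rw [hz', h, map_zero]))⟩
  haveI : IsDomain D := NoZeroDivisors.to_isDomain D
  -- from `L` to `Ω`
  letI : Algebra L D := (Algebra.TensorProduct.includeRight : L →ₐ[R] D).toRingHom.toAlgebra
  haveI : ConnectedSpace (PrimeSpectrum D) := inferInstance
  haveI h2 := GRingCpl.connectedSpace_tensor_of_algClosed (Ω := L) (Ω' := Ω) (D := D)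
  haveI : IsScalarTower R L D := IsScalarTower.of_algebraMap_eq fun r =>
    (Algebra.TensorProduct.algebraMap_apply' (R := R) (A := QX.R) (B := L) r)
  let ε : L ⊗[R] QX.R ≃ₐ[L] D := AlgEquiv.ofRingEquiv (f := (Algebra.TensorProduct.comm R L QX.R).toRingEquiv)
    fun l => rfl
  let e : Ω ⊗[L] D ≃ₐ[Ω] Ω ⊗[R] QX.R :=
    (Algebra.TensorProduct.congr AlgEquiv.refl ε.symm).trans (Algebra.TensorProduct.cancelBaseChange R L Ω Ω QX.R)
  exact (PrimeSpectrum.homeomorphOfRingEquiv
    (e.toRingEquiv.trans (Algebra.TensorProduct.comm R Ω QX.R).toRingEquiv)).connectedSpace_iff.mp h2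

/-- strict localisations of a smooth morphism are 0-acyclic -/
theorem isLocZeroAcyclic_smooth {X Y : Scheme.{u}} (g : X ⟶ Y) [Smooth g] : EtAcyc.IsLocZeroAcyclic g := by
  intro x RY RX _ _ _ _ _ _ _ _ _ _ _ _ hc
  let QY : EtBCQ.SH Y (g.base x) := { R := RY }
  let QX : EtBCQ.SH X x := { R := RX }
  have hX : Spec.map (CommRingCat.ofHom (algebraMap RY RX)) ≫ QY.spec = QX.spec ≫ g :=
    (EtBCQ.specOf_comp g x RY RX (algebraMap RY RX) hc).symm
  haveI : Module.Flat RY RX := by
    rw [← RingHom.flat_algebraMap_iff]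
    refine EtBCQ.flat_of_strict (g.stalkMap x).hom (Flat.stalkMap g x) (algebraMap (X.presheaf.stalk x) RX) ?_ _ hc
    haveI := Hensel.strictHenselization_faithfullyFlat (X.presheaf.stalk x) RX
    rw [RingHom.flat_algebraMap_iff]
    infer_instance
  let f : Spec (CommRingCat.of RX) ⟶ Spec (CommRingCat.of RY) := Spec.map (CommRingCat.ofHom (algebraMap RY RX))
  haveI : Flat f := by
    rw [HasRingHomProperty.Spec_iff (P := @Flat)]
    exact RingHom.flat_algebraMap_iff.mpr inferInstance
  haveI : Surjective f := by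
    haveI : Module.FaithfullyFlat RY RX := Module.FaithfullyFlat.of_flat_of_isLocalHom
    exact ⟨PrimeSpectrum.comap_surjective_of_faithfullyFlat (A := RY) (B := RX)⟩
  refine isZeroAcyclic_of_connected f (fun S' t => isQuotientMap_snd_of_flat f S' t) fun Ω _ _ s => ?_
  obtain ⟨φ, rfl⟩ := Spec.map_surjective s
  letI : Algebra RY Ω := φ.hom.toAlgebra
  haveI := connectedSpace_tensor_strict g QX QY hX Ω
  exact (pullbackSpecIso RY RX Ω).hom.homeomorph.connectedSpace_iff.mpr
    (inferInstanceAs (ConnectedSpace (PrimeSpectrum (RX ⊗[RY] Ω))))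

/-- smooth morphisms are universally locally 0-acyclic -/
theorem isULocZeroAcyclic_smooth {X Y : Scheme.{u}} (g : X ⟶ Y) [Smooth g] : EtAcyc.IsULocZeroAcyclic g := by
  intro X₁ Y₁ g₁ b' b h
  haveI : Smooth g₁ := MorphismProperty.of_isPullback h inferInstance
  exact isLocZeroAcyclic_smooth g₁

end Groth.Agent.EtShLib
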