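import Groth.Agent.EtShLib.Crit
import Groth.Agent.EtShLib.SmoothStrict
import Mathlib

/-!
Base change for sheaves of sets along morphisms with connected geometric fibres on strict localisations.
-/

set_option autoImplicit false
set_option backward.isDefEq.respectTransparency false
set_option backward.isDefEq.respectTransparency.types false
set_option maxHeartbeats 1000000
set_option linter.style.haveILetI false
set_option linter.unusedSectionVars false
set_option linter.overlappingInstances false

universe u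

open CategoryTheory CategoryTheory.Limits AlgebraicGeometry Opposite IsLocalRing
open scoped TensorProduct

noncomputable section

namespace Groth.Agent.EtShLib

open Groth.Agent.EtStrictLoc

/-- the tautological section of a pulled back final object is an isomorphism on sections -/
theorem bijective_ru_top {W B : Scheme.{u}} (m : W ⟶ B) (G : EtDesc.Sh B) (h : IsIso ((EtDesc.adjSh m).unit.app G)) :
    Function.Bijective (ru m G (mkδ (T := EtCoh.top W) (o := EtCoh.top B) m m
      ((Category.comp_id _).trans (Category.id_comp _).symm))) := by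
  let δ := mkδ (T := EtCoh.top W) (o := EtCoh.top B) m m ((Category.comp_id _).trans (Category.id_comp _).symm)
  have e : δ = (EtCore.bcTopIso m).inv := (EtCore.bcTopIsTerminal m).hom_ext _ _
  haveI : IsIso δ := e ▸ inferInstance
  haveI : IsIso ((EtDesc.adjSh m).unit.app G).hom :=
    inferInstanceAs (IsIso ((sheafToPresheaf _ _).map ((EtDesc.adjSh m).unit.app G)))
  exact (ConcreteCategory.bijective_of_isIso (((EtDesc.pullSh m).obj G).obj.map δ.op)).comp
    (ConcreteCategory.bijective_of_isIso (((EtDesc.adjSh m).unit.app G).hom.app (op (EtCoh.top B))))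

variable {X Y X' Y' : Scheme.{u}} (f : X ⟶ Y) (g : Y' ⟶ Y) (f' : X' ⟶ Y') (g' : X' ⟶ X)
  [QuasiCompact f] [QuasiSeparated f]

/-- base change holds when the maps of strict localisations give bijective pullbacks of sections -/
theorem isIso_baseChange0Sh_of_strict (h : IsPullback g' f' f g)
    (H : ∀ y' : Y', ∃ (QY : EtBCQ.SH Y (g y')) (Q' : EtBCQ.SH Y' y') (φ : QY.R →+* Q'.R) (_ : IsLocalHom φ)
      (hφ : Spec.map (CommRingCat.ofHom φ) ≫ QY.spec = Q'.spec ≫ g),
        ∀ G : EtDesc.Sh (xR f (g y') QY.R), IsIso ((EtDesc.adjSh (xMap f g f' g' h.w QY Q' φ hφ)).unit.app G))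
    (F : EtDesc.Sh X) : IsIso (EtBC.baseChange0Sh f g f' g' h.w F) := by
  haveI : QuasiCompact f' := MorphismProperty.of_isPullback (P := @QuasiCompact) h inferInstance
  haveI : QuasiSeparated f' := MorphismProperty.of_isPullback (P := @QuasiSeparated) h inferInstance
  let P : ∀ (Ω : Type u) [Field Ω] [IsSepClosed Ω], (Spec (CommRingCat.of Ω) ⟶ Y') → Prop := fun Ω _ _ ξ =>
    Function.Bijective ((Scheme.pointSmallEtale ξ).presheafFiber.map (EtBC.baseChange0Sh f g f' g' h.w F).hom)
  have hP : EtStalk.Covers (X := Y') P := by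
    intro y'
    obtain ⟨QY, Q', φ, hl, hφ, hu⟩ := H y'
    haveI := hl
    exact ⟨_, inferInstance, inferInstance, Hens2.geomPt Y' y' Q'.R,
      bijective_stalk_of_strict f g f' g' h.w QY Q' φ hφ (fun G => bijective_ru_top _ G (hu G)) F,
      EtBCQ.geomPt_apply y' Q'.R⟩
  have : Sheaf.IsLocallyInjective (EtBC.baseChange0Sh f g f' g' h.w F) :=
    EtStalk.isLocallyInjective_of_covers _ hP fun Ω _ _ ξ hξ => hξ.1
  have : Sheaf.IsLocallySurjective (EtBC.baseChange0Sh f g f' g' h.w F) :=
    EtStalk.isLocallySurjective_of_covers _ hP fun Ω _ _ ξ hξ => hξ.2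
  exact (Sheaf.isLocallyBijective_iff_isIso _).mp ⟨inferInstance, inferInstance⟩

/-- flat maps of strict localisations with connected geometric fibres -/
theorem isIso_baseChange0Sh_of_connected (h : IsPullback g' f' f g) [Flat g]
    (H : ∀ (y' : Y') (QY : EtBCQ.SH Y (g y')) (Q' : EtBCQ.SH Y' y') [Algebra QY.R Q'.R]
      [IsLocalHom (algebraMap QY.R Q'.R)] [Module.Flat QY.R Q'.R],
      Spec.map (CommRingCat.ofHom (algebraMap QY.R Q'.R)) ≫ QY.spec = Q'.spec ≫ g →
      ∀ (Ω : Type u) [Field Ω] [IsAlgClosed Ω] [Algebra QY.R Ω],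
        ConnectedSpace (PrimeSpectrum (Q'.R ⊗[QY.R] Ω)))
    (F : EtDesc.Sh X) : IsIso (EtBC.baseChange0Sh f g f' g' h.w F) := by
  refine isIso_baseChange0Sh_of_strict f g f' g' h (fun y' => ?_) F
  let QY := EtBCQ.mkSH Y (g y')
  let Q' := EtBCQ.mkSH Y' y'
  obtain ⟨φ, hl, hφ⟩ := EtBCQ.exists_strict_hom QY (Q'.spec ≫ g) (by rw [Scheme.Hom.comp_apply, Q'.spec_closed])
  refine ⟨QY, Q', φ, hl, hφ, fun G => ?_⟩
  letI : Algebra QY.R Q'.R := φ.toAlgebra
  haveI : IsLocalHom (algebraMap QY.R Q'.R) := hl
  haveI : Module.Flat QY.R Q'.R := by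
    rw [← RingHom.flat_algebraMap_iff]
    refine EtBCQ.flat_of_strict (g.stalkMap y').hom (Flat.stalkMap g y') (algebraMap (Y'.presheaf.stalk y') Q'.R) ?_ _
      (EtBCQ.comp_alg_of_spec g QY Q' φ hφ)
    haveI := Hensel.strictHenselization_faithfullyFlat (Y'.presheaf.stalk y') Q'.R
    rw [RingHom.flat_algebraMap_iff]
    infer_instance
  let q : Spec (CommRingCat.of Q'.R) ⟶ Spec (CommRingCat.of QY.R) := Spec.map (CommRingCat.ofHom φ)
  haveI : Flat q := by
    rw [HasRingHomProperty.Spec_iff (P := @Flat)]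
    exact RingHom.flat_algebraMap_iff.mpr (inferInstanceAs (Module.Flat QY.R Q'.R))
  haveI : Surjective q := by
    haveI : Module.FaithfullyFlat QY.R Q'.R := Module.FaithfullyFlat.of_flat_of_isLocalHom
    exact ⟨PrimeSpectrum.comap_surjective_of_faithfullyFlat (A := QY.R) (B := Q'.R)⟩
  have hsq := isPullback_xMap f g f' g' QY Q' φ hφ h
  let m := xMap f g f' g' h.w QY Q' φ hφ
  haveI : Flat m := MorphismProperty.of_isPullback (P := @Flat) hsq.flip inferInstance
  haveI : QuasiCompact m := MorphismProperty.of_isPullback (P := @QuasiCompact) hsq.flip inferInstance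
  haveI : Surjective m := MorphismProperty.of_isPullback (P := @Surjective) hsq.flip inferInstance
  refine isIso_unit m (fun S' t => isQuotientMap_snd_of_flat m S' t) (fun Ω _ _ s => ?_) G
  obtain ⟨ψ, hψ⟩ := Spec.map_surjective (s ≫ pullback.snd f QY.spec)
  letI : Algebra QY.R Ω := ψ.hom.toAlgebra
  haveI := H y' QY Q' hφ Ω
  have hP := (IsPullback.of_hasPullback m s).paste_horiz hsq.flip.flip.flip
  rw [← hψ] at hP
  exact (hP.isoPullback.hom.homeomorph).connectedSpace_iff.mpr
    ((pullbackSpecIso QY.R Q'.R Ω).hom.homeomorph.connectedSpace_iff.mpr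
      (inferInstanceAs (ConnectedSpace (PrimeSpectrum (Q'.R ⊗[QY.R] Ω)))))

/-- base change along a smooth morphism for sheaves of sets -/
theorem isIso_baseChange0Sh_smooth (h : IsPullback g' f' f g) [Smooth g] (F : EtDesc.Sh X) :
    IsIso (EtBC.baseChange0Sh f g f' g' h.w F) :=
  isIso_baseChange0Sh_of_connected f g f' g' h (fun _ QY Q' _ _ _ hX Ω _ _ _ =>
    connectedSpace_tensor_strict g Q' QY hX Ω) F

end Groth.Agent.EtShLib
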