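import Mathlib

/-!
Base change of a cofiltered limit of schemes along a morphism to a stage.
-/

set_option autoImplicit false
set_option backward.isDefEq.respectTransparency false
set_option maxHeartbeats 1000000
set_option linter.style.haveILetI false

universe u

open CategoryTheory CategoryTheory.Limits AlgebraicGeometry

noncomputable section

namespace Groth.Agent.EtShLib

variable {I : Type u} [SmallCategory I] (D : I ⥤ Scheme.{u}) (c : Cone D) {k : I} {P : Scheme.{u}} (h : P ⟶ D.obj k)

/-- the pulled back system -/
def pbDiag : Over k ⥤ Scheme.{u} where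
  obj l := pullback h (D.map l.hom)
  map {l m} a := pullback.lift (pullback.fst h (D.map l.hom)) (pullback.snd h (D.map l.hom) ≫ D.map a.left) (by
    rw [pullback.condition, Category.assoc, ← Functor.map_comp, Over.w a])
  map_id l := by apply pullback.hom_ext <;> simp
  map_comp a b := by apply pullback.hom_ext <;> simp

/-- to the system -/
def pbTo : pbDiag D h ⟶ Over.forget k ⋙ D where
  app l := pullback.snd h (D.map l.hom)
  naturality {l m} a := by simp [pbDiag]

/-- the cone -/
def pbCone : Cone (pbDiag D h) where
  pt := pullback h (c.π.app k)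
  π :=
    { app := fun l => pullback.lift (pullback.fst h (c.π.app k)) (pullback.snd h (c.π.app k) ≫ c.π.app l.left) (by
        rw [pullback.condition, Category.assoc, c.w])
      naturality := fun l m a => by
        dsimp [pbDiag]
        apply pullback.hom_ext <;> simp }

theorem isPullback_pbCone (l : Over k) :
    IsPullback ((pbCone D c h).π.app l) (pullback.snd h (c.π.app k)) (pullback.snd h (D.map l.hom))
      (c.π.app l.left) := by
  refine IsPullback.of_right ?_ (by simp [pbCone]) (IsPullback.of_hasPullback h (D.map l.hom))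
  simpa [pbCone] using IsPullback.of_hasPullback h (c.π.app k)

variable [IsCofiltered I]

/-- it is a limit -/
def isLimitPbCone (hc : IsLimit c) : IsLimit (pbCone D c h) :=
  haveI : IsConnected (Over k) := IsCofiltered.isConnected _
  isLimitOfIsPullbackOfIsConnected (pbTo D h) _ (c.whisker (Over.forget k))
    { hom := pullback.snd h (c.π.app k)
      w := fun l => ((isPullback_pbCone D c h l).w).symm }
    (isPullback_pbCone D c h)
    ((Functor.Initial.isLimitWhiskerEquiv (Over.forget k) c).symm hc)

variable [∀ {i j : I} (f : i ⟶ j), IsAffineHom (D.map f)]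

instance {l m : Over k} (a : l ⟶ m) : IsAffineHom ((pbDiag D h).map a) := by
  have h1 : IsPullback ((pbDiag D h).map a) (pullback.snd h (D.map l.hom)) (pullback.snd h (D.map m.hom))
      (D.map a.left) := by
    refine IsPullback.of_right ?_ (by simp [pbDiag]) (IsPullback.of_hasPullback h (D.map m.hom))
    have e : D.map l.hom = D.map a.left ≫ D.map m.hom := by rw [← Functor.map_comp, Over.w a]
    simpa [pbDiag, ← Functor.map_comp, Over.w a] using IsPullback.of_hasPullback h (D.map l.hom)
  exact MorphismProperty.of_isPullback (P := @IsAffineHom) h1.flip inferInstance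

instance [CompactSpace P] (l : Over k) : CompactSpace ((pbDiag D h).obj l) :=
  QuasiCompact.compactSpace_of_compactSpace (pullback.fst h (D.map l.hom))

variable {D c}

/-- an open containing the image of the limit contains the image of a stage -/
theorem exists_stage_subset (hc : IsLimit c) [CompactSpace P] (U : P.Opens)
    (hU : ∀ x, pullback.fst h (c.π.app k) x ∈ U) :
    ∃ (l : I) (a : l ⟶ k), ∀ y, pullback.fst h (D.map a) y ∈ U := by
  obtain ⟨m, f, hf⟩ := exists_map_eq_top (pbDiag D h) (pbCone D c h) (isLimitPbCone D c h hc) (i := Over.mk (𝟙 k))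
    (pullback.fst h (D.map (𝟙 k)) ⁻¹ᵁ U) (by
      refine TopologicalSpace.Opens.ext (Set.eq_univ_of_forall fun x => ?_)
      show pullback.fst h (D.map (𝟙 k)) ((pbCone D c h).π.app (Over.mk (𝟙 k)) x) ∈ U
      have e : (pbCone D c h).π.app (Over.mk (𝟙 k)) ≫ pullback.fst h (D.map (𝟙 k)) = pullback.fst h (c.π.app k) :=
        pullback.lift_fst _ _ _
      have e' := congr($e x)
      exact e'.symm ▸ hU x)
  refine ⟨m.left, m.hom, fun y => ?_⟩
  have h1 : y ∈ (pbDiag D h).map f ⁻¹ᵁ (pullback.fst h (D.map (𝟙 k)) ⁻¹ᵁ U) := by rw [hf]; trivial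
  have e : (pbDiag D h).map f ≫ pullback.fst h (D.map (𝟙 k)) = pullback.fst h (D.map m.hom) := pullback.lift_fst _ _ _
  have e' := congr($e y)
  exact e' ▸ h1

/-- neighbourhoods in the limit come from stages -/
theorem exists_stage_open (hc : IsLimit c) (O : (pullback h (c.π.app k) : Scheme.{u}).Opens)
    {x : ↥(pullback h (c.π.app k))} (hx : x ∈ O) :
    ∃ (l : I) (a : l ⟶ k) (V : (pullback h (D.map a) : Scheme.{u}).Opens), IsAffineOpen V ∧
      ∃ (π : pullback h (c.π.app k) ⟶ pullback h (D.map a)), π ≫ pullback.fst h (D.map a) = pullback.fst h (c.π.app k) ∧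
        π ≫ pullback.snd h (D.map a) = pullback.snd h (c.π.app k) ≫ c.π.app l ∧
        π x ∈ V ∧ ∀ z, π z ∈ V → z ∈ O := by
  obtain ⟨W, ⟨l, V, hV, rfl⟩, hxV, hVO⟩ := TopologicalSpace.Opens.isBasis_iff_nbhd.mp
    (isBasis_preimage_isAffineOpen (pbDiag D h) (pbCone D c h) (isLimitPbCone D c h hc)) hx
  exact ⟨l.left, l.hom, V, hV, (pbCone D c h).π.app l, pullback.lift_fst _ _ _, pullback.lift_snd _ _ _, hxV,
    fun z hz => hVO hz⟩

end Groth.Agent.EtShLib
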