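import Groth.Agent.EtShLib.ConnFib
import Groth.Agent.EtShLib.LimPull
import Groth.Agent.EtLimit.Sect
import Mathlib

/-!
Sections of the pullback of a sheaf of sets to a cofiltered limit of etale schemes.
-/

set_option autoImplicit false
set_option backward.isDefEq.respectTransparency false
set_option maxHeartbeats 1000000
set_option linter.style.haveILetI false
set_option linter.unusedSectionVars false

universe u

open CategoryTheory CategoryTheory.Limits AlgebraicGeometry Opposite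

noncomputable section

namespace Groth.Agent.EtShLib

section RU

variable {Z X : Scheme.{u}} (g : Z ⟶ X) (F : EtDesc.Sh X)

/-- a map into a pulled back étale scheme -/
def mkδ {T : Z.Etale} {o : X.Etale} (m : T.left ⟶ o.left) (w : m ≫ o.hom = T.hom ≫ g) : T ⟶ (EtCoh.bc g).obj o :=
  MorphismProperty.Over.homMk (pullback.lift m T.hom w) (pullback.lift_snd _ _ _)

theorem mkδ_fst {T : Z.Etale} {o : X.Etale} (m : T.left ⟶ o.left) (w : m ≫ o.hom = T.hom ≫ g) :
    (mkδ g m w).left ≫ pullback.fst o.hom g = m := pullback.lift_fst _ _ _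

theorem bc_ext {T : Z.Etale} {o : X.Etale} {δ δ' : T ⟶ (EtCoh.bc g).obj o}
    (h : δ.left ≫ pullback.fst o.hom g = δ'.left ≫ pullback.fst o.hom g) : δ = δ' :=
  MorphismProperty.Over.Hom.ext (pullback.hom_ext h
    ((MorphismProperty.Over.w δ).trans (MorphismProperty.Over.w δ').symm))

/-- the restriction of a pulled back section -/
def ru {T : Z.Etale} {o : X.Etale} (δ : T ⟶ (EtCoh.bc g).obj o) (s : EtDesc.sect F o) :
    EtDesc.sect ((EtDesc.pullSh g).obj F) T :=
  ((EtDesc.pullSh g).obj F).obj.map δ.op (unitSect g F o s)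

theorem map_ru {T T' : Z.Etale} {o : X.Etale} (e : T' ⟶ T) (δ : T ⟶ (EtCoh.bc g).obj o) (s : EtDesc.sect F o) :
    ((EtDesc.pullSh g).obj F).obj.map e.op (ru g F δ s) = ru g F (e ≫ δ) s :=
  map_map _ δ e _

theorem ru_res {T : Z.Etale} {o o' : X.Etale} (a : o' ⟶ o) (δ : T ⟶ (EtCoh.bc g).obj o') (s : EtDesc.sect F o) :
    ru g F δ (F.obj.map a.op s) = ru g F (δ ≫ (EtCoh.bc g).map a) s := by
  rw [ru, ru, unitSect_map, map_map]

theorem mem_eqLoc_ru {T : Z.Etale} {o : X.Etale} (δ : T ⟶ (EtCoh.bc g).obj o) (s s' : EtDesc.sect F o) (x : T.left) :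
    x ∈ eqLoc ((EtDesc.pullSh g).obj F) T (ru g F δ s) (ru g F δ s') ↔
      (δ.left ≫ pullback.fst o.hom g) x ∈ eqLoc F o s s' := by
  rw [ru, ru, eqLoc_map, Set.mem_preimage, mem_eqLoc_unit]
  exact Iff.rfl

end RU

/-- the unique map to the final object -/
def tT {S : Scheme.{u}} (V : S.Etale) : V ⟶ EtCoh.top S :=
  MorphismProperty.Over.homMk V.hom (Category.comp_id _)

theorem tT_eq {S : Scheme.{u}} {V : S.Etale} (a : V ⟶ EtCoh.top S) : a = tT V :=
  MorphismProperty.Over.Hom.ext ((Category.comp_id _).symm.trans (MorphismProperty.Over.w a))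

variable {X : Scheme.{u}} (F : EtDesc.Sh X) {I : Type u} [SmallCategory I] (D : I ⥤ X.Etale)
  (c : Cone (D ⋙ Scheme.Etale.forget X ⋙ Over.forget X)) (g : c.pt ⟶ X)
  (hg : ∀ i : I, c.π.app i ≫ (D.obj i).hom = g)

/-- the projection to a stage -/
abbrev cπ (i : I) : c.pt ⟶ (D.obj i).left := c.π.app i

/-- the canonical section of a pulled back stage -/
def δlim (i : I) : EtCoh.top c.pt ⟶ (EtCoh.bc g).obj (D.obj i) :=
  mkδ g (cπ D c i) ((hg i).trans (Category.id_comp g).symm)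

theorem δlim_map {k i : I} (a : k ⟶ i) : δlim D c g hg k ≫ (EtCoh.bc g).map (D.map a) = δlim D c g hg i := by
  refine bc_ext g ?_
  refine (Category.assoc (δlim D c g hg k).left ((EtCoh.bc g).map (D.map a)).left _).trans ?_
  rw [bc_map_fst, ← Category.assoc, δlim, δlim, mkδ_fst, mkδ_fst]
  exact c.w a

/-- a local piece of the given section, defined at a stage -/
def Good (t : EtDesc.sect ((EtDesc.pullSh g).obj F) (EtCoh.top c.pt)) {j : I} {Zp : X.Etale} (a : Zp ⟶ D.obj j)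
    (σ : EtDesc.sect F Zp) : Prop :=
  ∀ (T : c.pt.Etale) (m : T.left ⟶ Zp.left) (w : m ≫ Zp.hom = T.hom ≫ g), m ≫ a.left = T.hom ≫ cπ D c j →
    ((EtDesc.pullSh g).obj F).obj.map (tT T).op t = ru g F (mkδ g m w) σ

theorem Good.res {t : EtDesc.sect ((EtDesc.pullSh g).obj F) (EtCoh.top c.pt)} {j l : I} {Zp Z' : X.Etale}
    {a : Zp ⟶ D.obj j} {σ : EtDesc.sect F Zp} (h : Good F D c g t a σ) (b : l ⟶ j) (a' : Z' ⟶ D.obj l) (e : Z' ⟶ Zp)
    (he : a' ≫ D.map b = e ≫ a) : Good F D c g t a' (F.obj.map e.op σ) := by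
  intro T m w hm
  rw [ru_res]
  have he' : a'.left ≫ (D.map b).left = e.left ≫ a.left := congrArg (fun q => q.left) he
  refine (h T (m ≫ e.left) ?_ ?_).trans ?_
  · rw [Category.assoc, MorphismProperty.Over.w e]; exact w
  · rw [Category.assoc, ← he', reassoc_of% hm]
    exact congrArg (T.hom ≫ ·) (c.w b)
  · congr 1
    refine bc_ext g ?_
    rw [mkδ_fst]
    refine Eq.trans ?_ (Category.assoc (mkδ g m w).left ((EtCoh.bc g).map e).left _).symm
    rw [bc_map_fst, ← Category.assoc, mkδ_fst]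

include hg in
theorem exists_good (t : EtDesc.sect ((EtDesc.pullSh g).obj F) (EtCoh.top c.pt)) (hc : IsLimit c)
    [IsCofiltered I] [∀ {i j : I} (f : i ⟶ j), IsAffineHom (D.map f).left] (p : c.pt) :
    ∃ (j : I) (Zp : X.Etale) (a : Zp ⟶ D.obj j) (σ : EtDesc.sect F Zp), IsAffine Zp.left ∧
      Good F D c g t a σ ∧ cπ D c j p ∈ Set.range a.left := by
  haveI : ∀ {i j : I} (f : i ⟶ j), IsAffineHom ((D ⋙ Scheme.Etale.forget X ⋙ Over.forget X).map f) :=
    fun f => inferInstanceAs (IsAffineHom (D.map f).left)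
  obtain ⟨i⟩ : Nonempty I := IsCofiltered.nonempty
  obtain ⟨Ω, _, _, ξ, -, hξ⟩ := Groth.Agent.EtStalk.covers_all (X := c.pt) p
  let t₀ := EtCoh.top c.pt
  let v₀ : Over.mk ξ ⟶ (Scheme.Etale.forget c.pt).obj t₀ := Over.homMk ξ (Category.comp_id _)
  obtain ⟨γ, hγ, hγg⟩ := exists_pullGerm g ξ (ξ ≫ g) rfl F
  obtain ⟨z, hz⟩ := hγ.2 (gm ξ ((EtDesc.pullSh g).obj F) t₀ v₀ t)
  obtain ⟨V, v, σ, rfl⟩ := gm_surjective (G := F) (ξ ≫ g) z
  have hq0 := (hγg V v σ).symm.trans hz
  let u := EtPushStalk.up g ξ v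
  have hu : (Scheme.pointSmallEtale ξ).fiber.map (tT ((EtCoh.bc g).obj V)) u = v₀ := by
    refine Over.OverMorphism.ext ?_
    exact Over.w u
  rw [← hu, ← gm_map] at hq0
  let q : ((EtCoh.bc g).obj V).left := (u.left : Spec (CommRingCat.of Ω) ⟶ _) (default : Spec (CommRingCat.of Ω))
  let O : Set ((EtCoh.bc g).obj V).left := eqLoc ((EtDesc.pullSh g).obj F) ((EtCoh.bc g).obj V)
    (((EtDesc.pullSh g).obj F).obj.map (tT ((EtCoh.bc g).obj V)).op t) (unitSect g F V σ)
  have hq : q ∈ O := eqLoc_symm ((gm_eq_iff _ _ _ _).mp hq0)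
  have hqp : pullback.snd V.hom g q = p := by
    refine (Scheme.Hom.comp_apply u.left (pullback.snd V.hom g) (default : Spec (CommRingCat.of Ω))).symm.trans ?_
    exact (congr($(Over.w u) (default : Spec (CommRingCat.of Ω)))).trans hξ
  let h : (pullback V.hom (D.obj i).hom : Scheme.{u}) ⟶ (D.obj i).left := pullback.snd _ _
  let W := pullback h (cπ D c i)
  let ω : W ⟶ ((EtCoh.bc g).obj V).left :=
    pullback.lift (pullback.fst h (cπ D c i) ≫ pullback.fst _ _) (pullback.snd h (cπ D c i)) (by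
      rw [Category.assoc, pullback.condition, ← Category.assoc, pullback.condition, Category.assoc, hg])
  let ω' : ((EtCoh.bc g).obj V).left ⟶ W :=
    pullback.lift (pullback.lift (pullback.fst V.hom g) (pullback.snd V.hom g ≫ cπ D c i) (by
      rw [Category.assoc, hg, pullback.condition])) (pullback.snd V.hom g) (pullback.lift_snd _ _ _)
  have hω : ω' ≫ ω = 𝟙 _ := by
    apply pullback.hom_ext <;> simp [ω, ω']
  have hωq : ω (ω' q) = q := by
    rw [← Scheme.Hom.comp_apply, hω]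
    rfl
  obtain ⟨l, a, V', hV', π, hπ1, hπ2, hπx, hπO⟩ := exists_stage_open (D := D ⋙ Scheme.Etale.forget X ⋙ Over.forget X)
    (c := c) (k := i) h hc (ω ⁻¹ᵁ ⟨O, isOpen_eqLoc _ _⟩) (x := ω' q) (by show ω (ω' q) ∈ O; rw [hωq]; exact hq)
  haveI := V.prop
  haveI := (D.obj i).prop
  haveI := etale_left (D.map a)
  haveI : Etale (pullback.fst h ((D ⋙ Scheme.Etale.forget X ⋙ Over.forget X).map a)) :=
    inferInstanceAs (Etale (pullback.fst h (D.map a).left))
  let Zp : X.Etale := Scheme.Etale.mk (V'.ι ≫ pullback.fst h _ ≫ pullback.fst V.hom (D.obj i).hom ≫ V.hom)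
  let ap : Zp ⟶ D.obj l := MorphismProperty.Over.homMk (V'.ι ≫ pullback.snd h _) (by
    show (V'.ι ≫ pullback.snd h _) ≫ (D.obj l).hom = V'.ι ≫ pullback.fst h _ ≫ pullback.fst V.hom (D.obj i).hom ≫ V.hom
    rw [pullback.condition (f := V.hom), ← MorphismProperty.Over.w (D.map a), Category.assoc]
    exact congrArg (V'.ι ≫ ·) ((Category.assoc _ _ _).symm.trans ((congrArg (· ≫ (D.obj i).hom)
      (pullback.condition (f := h)).symm).trans (Category.assoc _ _ _))))
  let e : Zp ⟶ V := MorphismProperty.Over.homMk (V'.ι ≫ pullback.fst h _ ≫ pullback.fst V.hom (D.obj i).hom) (by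
    simp only [Category.assoc]
    rfl)
  refine ⟨l, Zp, ap, F.obj.map e.op σ, hV', fun T m w hm => ?_, ?_⟩
  · let y : T.left ⟶ W := pullback.lift (m ≫ V'.ι ≫ pullback.fst h _) T.hom (by
      rw [Category.assoc, Category.assoc, pullback.condition]
      have hm' : (m ≫ V'.ι ≫ pullback.snd h _) ≫ (D.map a).left = (T.hom ≫ cπ D c l) ≫ (D.map a).left :=
        congrArg (· ≫ (D.map a).left) hm
      simp only [Category.assoc] at hm'
      exact hm'.trans (congrArg (T.hom ≫ ·) (c.w a)))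
    have hy : y ≫ π = m ≫ V'.ι := by
      apply pullback.hom_ext
      · rw [Category.assoc, hπ1, pullback.lift_fst, Category.assoc]
      · rw [Category.assoc, hπ2, pullback.lift_snd_assoc, Category.assoc]
        exact hm.symm
    rw [ru_res]
    let δ := mkδ g m w ≫ (EtCoh.bc g).map e
    have hδ : δ.left = y ≫ ω := by
      apply pullback.hom_ext
      · refine (Category.assoc (mkδ g m w).left ((EtCoh.bc g).map e).left _).trans ?_
        rw [bc_map_fst, ← Category.assoc, mkδ_fst, Category.assoc, pullback.lift_fst, pullback.lift_fst_assoc,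
          Category.assoc, Category.assoc]
        rfl
      · rw [Category.assoc, pullback.lift_snd, pullback.lift_snd]
        exact MorphismProperty.Over.w δ
    show _ = ru g F δ σ
    refine eq_of_eqLoc fun x => ?_
    rw [show tT T = δ ≫ tT _ from (tT_eq _).symm, ← map_map, ru, eqLoc_map]
    show δ.left x ∈ O
    rw [hδ, Scheme.Hom.comp_apply]
    refine hπO (y x) ?_
    rw [← Scheme.Hom.comp_apply, hy, Scheme.Hom.comp_apply]
    exact (Scheme.Opens.range_ι V').le ⟨_, rfl⟩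
  · obtain ⟨o, ho⟩ := (Scheme.Opens.range_ι V').ge hπx
    refine ⟨o, ?_⟩
    show (V'.ι ≫ pullback.snd h _) o = cπ D c l p
    rw [Scheme.Hom.comp_apply, ho]
    have h2 : (ω' ≫ π) ≫ pullback.snd h _ = pullback.snd V.hom g ≫ cπ D c l := by
      rw [Category.assoc, hπ2, pullback.lift_snd_assoc]
    have h3 := congr($h2 q)
    rw [Scheme.Hom.comp_apply, Scheme.Hom.comp_apply, Scheme.Hom.comp_apply, hqp] at h3
    exact h3

variable [IsCofiltered I] [∀ {i j : I} (f : i ⟶ j), IsAffineHom (D.map f).left]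
  (hq : ∀ i : I, EtColimH.Qcqs (D.obj i))

include hq in
/-- sections with the same image on the limit agree at a stage -/
theorem exists_eq_of_ru_eq (hc : IsLimit c) {i : I} (s s' : EtDesc.sect F (D.obj i))
    (h : ru g F (δlim D c g hg i) s = ru g F (δlim D c g hg i) s') :
    ∃ (k : I) (a : k ⟶ i), F.obj.map (D.map a).op s = F.obj.map (D.map a).op s' := by
  haveI : ∀ {i j : I} (f : i ⟶ j), IsAffineHom ((D ⋙ Scheme.Etale.forget X ⋙ Over.forget X).map f) :=
    fun f => inferInstanceAs (IsAffineHom (D.map f).left)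
  haveI : ∀ j, CompactSpace ((D ⋙ Scheme.Etale.forget X ⋙ Over.forget X).obj j) := fun j => (hq j).1
  let U : ((D ⋙ Scheme.Etale.forget X ⋙ Over.forget X).obj i).Opens := ⟨eqLoc F (D.obj i) s s', isOpen_eqLoc s s'⟩
  obtain ⟨k, a, hk⟩ := exists_map_eq_top _ c hc U (by
    refine TopologicalSpace.Opens.ext (Set.eq_univ_of_forall fun x => ?_)
    have := (mem_eqLoc_ru g F (δlim D c g hg i) s s' x).mp (by rw [h, eqLoc_self]; trivial)
    rwa [δlim, mkδ_fst] at this)
  refine ⟨k, a, eq_of_eqLoc fun x => ?_⟩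
  rw [eqLoc_map]
  exact (TopologicalSpace.Opens.ext_iff.mp hk).ge (Set.mem_univ x)

include hq in
/-- sections on the limit come from a stage -/
theorem exists_ru_eq (hc : IsLimit c) (t : EtDesc.sect ((EtDesc.pullSh g).obj F) (EtCoh.top c.pt)) :
    ∃ (l : I) (s : EtDesc.sect F (D.obj l)), ru g F (δlim D c g hg l) s = t := by
  classical
  let D' := D ⋙ Scheme.Etale.forget X ⋙ Over.forget X
  haveI hA : ∀ {i j : I} (f : i ⟶ j), IsAffineHom (D'.map f) :=
    fun f => inferInstanceAs (IsAffineHom (D.map f).left)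
  haveI hC : ∀ j, CompactSpace (D'.obj j) := fun j => (hq j).1
  haveI : CompactSpace c.pt := Scheme.compactSpace_of_isLimit D' c hc
  choose j Zp a σ hZ hgood hcov using exists_good F D c g hg t hc
  -- finitely many pieces
  obtain ⟨P, hP⟩ := isCompact_univ.elim_finite_subcover (fun p : c.pt => cπ D c (j p) ⁻¹' Set.range (a p).left)
    (fun p => by
      haveI := etale_left (a p)
      exact (a p).left.isOpenMap.isOpen_range.preimage (cπ D c (j p)).continuous)
    (fun p _ => Set.mem_iUnion.mpr ⟨p, hcov p⟩)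
  obtain ⟨k₀, hk₀⟩ := IsCofiltered.inf_objs_exists (P.image j)
  let b₀ : ∀ p : P, k₀ ⟶ j p.1 := fun p => (hk₀ (Finset.mem_image_of_mem j p.2)).some
  let U₀ : (D'.obj k₀).Opens := ⟨⋃ p : P, (D.map (b₀ p)).left ⁻¹' Set.range (a p.1).left,
    isOpen_iUnion fun p => by
      haveI := etale_left (a p.1)
      exact (a p.1).left.isOpenMap.isOpen_range.preimage (D.map (b₀ p)).left.continuous⟩
  obtain ⟨k, hk, hU₀⟩ := exists_map_eq_top D' c hc U₀ (by
    refine TopologicalSpace.Opens.ext (Set.eq_univ_of_forall fun x => ?_)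
    obtain ⟨p, hp, hx⟩ := Set.mem_iUnion₂.mp (hP (Set.mem_univ x))
    show c.π.app k₀ x ∈ ⋃ p : P, (D.map (b₀ p)).left ⁻¹' Set.range (a p.1).left
    refine Set.mem_iUnion.mpr ⟨⟨p, hp⟩, ?_⟩
    show (D.map (b₀ ⟨p, hp⟩)).left (c.π.app k₀ x) ∈ Set.range (a p).left
    have e : c.π.app k₀ ≫ (D.map (b₀ ⟨p, hp⟩)).left = c.π.app (j p) := c.w _
    have e' : (D.map (b₀ ⟨p, hp⟩)).left (c.π.app k₀ x) = c.π.app (j p) x := congr($e x)
    exact e' ▸ hx)
  -- the pieces over the stage `k`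
  have hA' : ∀ p : P, ∃ (Z' : X.Etale) (a' : Z' ⟶ D.obj k) (σ' : EtDesc.sect F Z'), EtColimH.Qcqs Z' ∧
      Good F D c g t a' σ' ∧ (D.map (hk ≫ b₀ p)).left ⁻¹' Set.range (a p.1).left ⊆ Set.range a'.left := by
    intro p
    haveI := hZ p.1
    obtain ⟨Z', q₁, q₂, hZ', hq12, hpb⟩ := EtLimit.qcqs_fibre (hq (j p.1)) (hq k) (EtColimH.qcqs_of_isAffine (Zp p.1))
      (D.map (hk ≫ b₀ p)) (a p.1)
    refine ⟨Z', q₁, F.obj.map q₂.op (σ p.1), hZ', (hgood p.1).res F D c g (hk ≫ b₀ p) q₁ q₂ hq12, ?_⟩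
    rintro x ⟨z, hz⟩
    obtain ⟨w, hw, -⟩ := Scheme.exists_preimage_of_isPullback hpb x z hz.symm
    exact ⟨w, hw⟩
  choose Z' a' σ' hZ' hgood' hcov' using hA'
  have hsurj : ∀ x : (D.obj k).left, ∃ p : P, x ∈ Set.range (a' p).left := by
    intro x
    have hx : x ∈ D'.map hk ⁻¹ᵁ U₀ := by rw [hU₀]; trivial
    obtain ⟨p, hp⟩ := Set.mem_iUnion.mp hx
    refine ⟨p, hcov' p ?_⟩
    show (D.map (hk ≫ b₀ p)).left x ∈ Set.range (a p.1).left
    rw [Functor.map_comp]
    exact hp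
  -- agreement on overlaps
  have hov : ∀ pq : P × P, ∃ (l : I) (b : l ⟶ k), ∀ (T : X.Etale) (x : T ⟶ Z' pq.1) (y : T ⟶ Z' pq.2)
      (π : T ⟶ D.obj l), x ≫ a' pq.1 = π ≫ D.map b → y ≫ a' pq.2 = π ≫ D.map b →
      F.obj.map x.op (σ' pq.1) = F.obj.map y.op (σ' pq.2) := by
    intro pq
    obtain ⟨R, r₁, r₂, hR, hr, hpb⟩ := EtLimit.qcqs_fibre (hq k) (hZ' pq.1) (hZ' pq.2) (a' pq.1) (a' pq.2)
    let h : R.left ⟶ D'.obj k := (r₁ ≫ a' pq.1).left
    haveI := hR.1
    let U : R.left.Opens := ⟨_, isOpen_eqLoc (F.obj.map r₁.op (σ' pq.1)) (F.obj.map r₂.op (σ' pq.2))⟩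
    obtain ⟨l, b, hb⟩ := exists_stage_subset (D := D') (c := c) h hc U (fun x => by
      haveI := etale_left (r₁ ≫ a' pq.1)
      haveI : Etale (pullback.snd h (c.π.app k)) := inferInstance
      let T : c.pt.Etale := Scheme.Etale.mk (pullback.snd h (c.π.app k))
      have hcond : pullback.fst h (c.π.app k) ≫ h = pullback.snd h (c.π.app k) ≫ cπ D c k := pullback.condition
      have w : pullback.fst h (c.π.app k) ≫ R.hom = T.hom ≫ g := by
        rw [← MorphismProperty.Over.w (r₁ ≫ a' pq.1), ← hg k, reassoc_of% hcond]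
        rfl
      let δ : T ⟶ (EtCoh.bc g).obj R := mkδ g (pullback.fst h (c.π.app k)) w
      have e₁ := ((hgood' pq.1).res F D c g (𝟙 k) (r₁ ≫ a' pq.1) r₁
        (by rw [CategoryTheory.Functor.map_id, Category.comp_id])) T (pullback.fst h (c.π.app k)) w hcond
      have e₂ := ((hgood' pq.2).res F D c g (𝟙 k) (r₁ ≫ a' pq.1) r₂
        (by rw [CategoryTheory.Functor.map_id, Category.comp_id, hr])) T (pullback.fst h (c.π.app k)) w hcond
      have h3 := (mem_eqLoc_ru g F δ (F.obj.map r₁.op (σ' pq.1)) (F.obj.map r₂.op (σ' pq.2)) x).mp (by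
        rw [show ru g F δ (F.obj.map r₁.op (σ' pq.1)) = ru g F δ (F.obj.map r₂.op (σ' pq.2)) from e₁.symm.trans e₂,
          eqLoc_self]
        trivial)
      rwa [mkδ_fst] at h3)
    refine ⟨l, b, fun T x y π hx hy => ?_⟩
    have hxy : x.left ≫ (a' pq.1).left = y.left ≫ (a' pq.2).left :=
      congrArg (fun m => m.left) (hx.trans hy.symm)
    let m : T ⟶ R := MorphismProperty.Over.homMk (hpb.lift x.left y.left hxy) (by
      rw [← MorphismProperty.Over.w r₁, hpb.lift_fst_assoc]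
      exact MorphismProperty.Over.w x)
    have hm₁ : m ≫ r₁ = x := MorphismProperty.Over.Hom.ext (hpb.lift_fst _ _ _)
    have hm₂ : m ≫ r₂ = y := MorphismProperty.Over.Hom.ext (hpb.lift_snd _ _ _)
    rw [← hm₁, ← hm₂, ← map_map, ← map_map]
    refine eq_of_eqLoc fun z => ?_
    rw [eqLoc_map]
    have hz : m.left ≫ h = π.left ≫ D'.map b := by
      have e : m ≫ r₁ ≫ a' pq.1 = π ≫ D.map b := by rw [← Category.assoc, hm₁, hx]
      exact congrArg (fun q => q.left) e
    have h4 := hb (pullback.lift m.left π.left hz z)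
    rw [← Scheme.Hom.comp_apply, pullback.lift_fst] at h4
    exact h4
  choose L b hL using hov
  obtain ⟨l, f₀, hf₀⟩ : ∃ (l : I) (f₀ : l ⟶ k), ∀ pq : P × P, ∃ e : l ⟶ L pq, e ≫ b pq = f₀ := by
    obtain ⟨l, hl⟩ := IsCofiltered.inf_objs_exists (insert k (Finset.univ.image L))
    let fk : l ⟶ k := (hl (Finset.mem_insert_self _ _)).some
    obtain ⟨l', hl', hm⟩ : ∃ (l' : I) (hl' : l' ⟶ l), ∀ pq : P × P,
        hl' ≫ (hl (Finset.mem_insert_of_mem (Finset.mem_image_of_mem L (Finset.mem_univ pq)))).some ≫ b pq =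
          hl' ≫ fk := by
      suffices hs : ∀ s : Finset (P × P), ∃ (l' : I) (hl' : l' ⟶ l), ∀ pq ∈ s,
          hl' ≫ (hl (Finset.mem_insert_of_mem (Finset.mem_image_of_mem L (Finset.mem_univ pq)))).some ≫ b pq =
            hl' ≫ fk by
        obtain ⟨l', hl', hm⟩ := hs Finset.univ
        exact ⟨l', hl', fun pq => hm pq (Finset.mem_univ pq)⟩
      intro s
      induction s using Finset.induction_on with
      | empty => exact ⟨l, 𝟙 l, fun pq h => absurd h (Finset.notMem_empty pq)⟩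
      | insert pq s _ ih =>
        obtain ⟨l₁, h₁, hm₁⟩ := ih
        obtain ⟨l₂, h₂, hm₂⟩ := IsCofilteredOrEmpty.cone_maps
          (h₁ ≫ (hl (Finset.mem_insert_of_mem (Finset.mem_image_of_mem L (Finset.mem_univ pq)))).some ≫ b pq)
          (h₁ ≫ fk)
        refine ⟨l₂, h₂ ≫ h₁, fun r hr => ?_⟩
        simp only [Category.assoc]
        rcases Finset.mem_insert.mp hr with rfl | hr
        · exact hm₂
        · rw [hm₁ r hr]
    exact ⟨l', hl' ≫ fk, fun pq =>
      ⟨hl' ≫ (hl (Finset.mem_insert_of_mem (Finset.mem_image_of_mem L (Finset.mem_univ pq)))).some,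
        (Category.assoc _ _ _).trans (hm pq)⟩⟩
  choose Z'' z₁ z₂ hz hpts using fun p : P => exists_fibreProd (D.map f₀) (a' p)
  obtain ⟨s, hs⟩ := exists_amalg (G := F) (P := D.obj l) Z'' z₁
    (fun x => by
      obtain ⟨p, y, hy⟩ := hsurj ((D.map f₀).left x)
      obtain ⟨z, hz, -⟩ := hpts p x y hy.symm
      exact ⟨p, z, hz⟩)
    (fun p => F.obj.map (z₂ p).op (σ' p))
    (fun p p' T x y hxy => by
      obtain ⟨e, he⟩ := hf₀ (p, p')
      rw [map_map, map_map]
      refine hL (p, p') T (x ≫ z₂ p) (y ≫ z₂ p') (x ≫ z₁ p ≫ D.map e) ?_ ?_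
      · simp only [Category.assoc, ← Functor.map_comp, he, hz]
      · simp only [Category.assoc, ← Functor.map_comp, he, ← hz]
        rw [reassoc_of% hxy])
  refine ⟨l, s, eq_of_eqLoc fun x => ?_⟩
  -- near each point of the limit
  obtain ⟨p, y, hy⟩ := hsurj ((D.map f₀).left (cπ D c l x))
  obtain ⟨z, hzx, -⟩ := hpts p (cπ D c l x) y hy.symm
  haveI := etale_left (z₁ p)
  let T : c.pt.Etale := Scheme.Etale.mk (pullback.snd (z₁ p).left (cπ D c l))
  let eT : T ⟶ EtCoh.top c.pt := tT T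
  obtain ⟨w, -, hw⟩ := Scheme.Pullback.exists_preimage_pullback (f := (z₁ p).left) (g := cπ D c l) z x hzx
  refine ⟨T, eT, ⟨w, hw⟩, ?_⟩
  have wT : pullback.fst (z₁ p).left (cπ D c l) ≫ (Z'' p).hom = T.hom ≫ g := by
    rw [← MorphismProperty.Over.w (z₁ p), pullback.condition_assoc, hg l]
    rfl
  have hG := ((hgood' p).res F D c g f₀ (z₁ p) (z₂ p) (hz p)) T (pullback.fst (z₁ p).left (cπ D c l)) wT
    pullback.condition
  rw [hG, ← hs p, ru_res, map_ru]
  congr 1
  refine bc_ext g ?_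
  refine Eq.trans ?_ (Category.assoc (mkδ g _ wT).left ((EtCoh.bc g).map (z₁ p)).left _).symm
  rw [bc_map_fst, ← Category.assoc, mkδ_fst, pullback.condition]
  refine (Category.assoc eT.left (δlim D c g hg l).left _).trans ?_
  rw [δlim, mkδ_fst]
  rfl

end Groth.Agent.EtShLib
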