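import Groth.Agent.EtStalk.Conservative
import Groth.Prelude.Def_SGA4b
import Mathlib

/-!
Sheaves of sets on the small etale site: germs, the locus where two sections agree, gluing.
-/

set_option autoImplicit false
set_option backward.isDefEq.respectTransparency false
set_option maxHeartbeats 1000000
set_option linter.style.haveILetI false

universe u

open CategoryTheory CategoryTheory.Limits AlgebraicGeometry Opposite

noncomputable section

namespace Groth.Agent.EtShLib

variable {S : Scheme.{u}}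

/-- germ of a section of a sheaf of sets at a geometric point -/
abbrev gm {Ω : Type u} [Field Ω] [IsSepClosed Ω] (ξ : Spec (CommRingCat.of Ω) ⟶ S) (G : EtDesc.Sh S)
    (U : S.Etale) (x : Over.mk ξ ⟶ (Scheme.Etale.forget S).obj U) (s : EtDesc.sect G U) :
    (Scheme.pointSmallEtale ξ).presheafFiber.obj G.obj :=
  (Scheme.pointSmallEtale ξ).toPresheafFiber U x G.obj s

theorem etale_left {V U : S.Etale} (φ : V ⟶ U) : AlgebraicGeometry.Etale φ.left := by
  have := U.prop
  have : AlgebraicGeometry.Etale (φ.left ≫ U.hom) := by rw [MorphismProperty.Over.w φ]; exact V.prop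
  exact AlgebraicGeometry.Etale.of_comp φ.left U.hom

theorem exists_fibreProd {V W U : S.Etale} (φ : V ⟶ U) (g : W ⟶ U) :
    ∃ (P : S.Etale) (a : P ⟶ V) (b : P ⟶ W), a ≫ φ = b ≫ g ∧
      ∀ (v : V.left) (w : W.left), φ.left v = g.left w → ∃ p : P.left, a.left p = v ∧ b.left p = w := by
  have := etale_left φ
  have := etale_left g
  have := V.prop
  let P : S.Etale := Scheme.Etale.mk (pullback.fst φ.left g.left ≫ V.hom)
  let a : P ⟶ V := MorphismProperty.Over.homMk (pullback.fst φ.left g.left) rfl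
  let b : P ⟶ W := MorphismProperty.Over.homMk (pullback.snd φ.left g.left) (by
    change _ = pullback.fst φ.left g.left ≫ V.hom
    rw [← MorphismProperty.Over.w g, ← Category.assoc, ← pullback.condition, Category.assoc,
      MorphismProperty.Over.w φ])
  refine ⟨P, a, b, MorphismProperty.Over.Hom.ext pullback.condition, fun v w h => ?_⟩
  obtain ⟨p, hp, hq⟩ := Scheme.Pullback.exists_preimage_pullback v w h
  exact ⟨p, hp, hq⟩

variable (G : EtDesc.Sh S)

theorem map_map {U V W : S.Etale} (f : V ⟶ U) (g : W ⟶ V) (s : EtDesc.sect G U) :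
    G.obj.map g.op (G.obj.map f.op s) = G.obj.map (g ≫ f).op s := by
  rw [op_comp, Functor.map_comp]; rfl

/-- the points near which two sections agree -/
def eqLoc (U : S.Etale) (a b : EtDesc.sect G U) : Set U.left :=
  {x | ∃ (W : S.Etale) (g : W ⟶ U), x ∈ Set.range g.left ∧ G.obj.map g.op a = G.obj.map g.op b}

variable {G}

theorem eqLoc_self {U : S.Etale} (a : EtDesc.sect G U) : eqLoc G U a a = Set.univ :=
  Set.eq_univ_of_forall fun x => ⟨U, 𝟙 U, ⟨x, rfl⟩, rfl⟩

theorem eqLoc_symm {U : S.Etale} {a b : EtDesc.sect G U} {x : U.left} (h : x ∈ eqLoc G U a b) :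
    x ∈ eqLoc G U b a := by
  obtain ⟨W, g, hg, e⟩ := h
  exact ⟨W, g, hg, e.symm⟩

theorem isOpen_eqLoc {U : S.Etale} (a b : EtDesc.sect G U) : IsOpen (eqLoc G U a b) := by
  refine isOpen_iff_forall_mem_open.mpr fun x hx => ?_
  obtain ⟨W, g, hg, h0⟩ := hx
  have := etale_left g
  exact ⟨Set.range g.left, fun y hy => ⟨W, g, hy, h0⟩, g.left.isOpenMap.isOpen_range, hg⟩

theorem eqLoc_trans {U : S.Etale} {a b c : EtDesc.sect G U} {x : U.left} (h : x ∈ eqLoc G U a b)
    (h' : x ∈ eqLoc G U b c) : x ∈ eqLoc G U a c := by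
  obtain ⟨W, g, ⟨w, hw⟩, e⟩ := h
  obtain ⟨W', g', ⟨w', hw'⟩, e'⟩ := h'
  obtain ⟨P, p, q, hpq, hP⟩ := exists_fibreProd g g'
  obtain ⟨z, hz, -⟩ := hP w w' (hw.trans hw'.symm)
  refine ⟨P, p ≫ g, ⟨z, ?_⟩, ?_⟩
  · show (p.left ≫ g.left) z = x
    rw [Scheme.Hom.comp_apply, hz, hw]
  · rw [← map_map, e, map_map, hpq, ← map_map, e', map_map]

theorem eqLoc_map {U V : S.Etale} (φ : V ⟶ U) (a b : EtDesc.sect G U) :
    eqLoc G V (G.obj.map φ.op a) (G.obj.map φ.op b) = φ.left ⁻¹' eqLoc G U a b := by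
  ext v
  constructor
  · rintro ⟨W, g, ⟨w, hw⟩, e⟩
    refine ⟨W, g ≫ φ, ⟨w, ?_⟩, by rw [← map_map, e, map_map]⟩
    show (g.left ≫ φ.left) w = φ.left v
    rw [Scheme.Hom.comp_apply, hw]
  · rintro ⟨W, g, ⟨w, hw⟩, e⟩
    obtain ⟨P, p, q, hpq, hP⟩ := exists_fibreProd φ g
    obtain ⟨z, hz, -⟩ := hP v w hw.symm
    exact ⟨P, p, ⟨z, hz⟩, by rw [map_map, map_map, hpq, ← map_map, e, map_map]⟩

theorem eq_of_eqLoc {U : S.Etale} {a b : EtDesc.sect G U} (h : ∀ x, x ∈ eqLoc G U a b) : a = b := by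
  choose W g hg he using h
  have hS : Sieve.ofArrows W g ∈ S.smallEtaleTopology U := by
    rw [Scheme.ofArrows_mem_smallEtaleTopology_iff]
    exact Set.eq_univ_of_forall fun v => Set.mem_iUnion.mpr ⟨v, hg v⟩
  have hs := Presieve.IsSheafFor.isSeparatedFor
    ((isSheaf_iff_isSheaf_of_type _ _).mp G.property (Sieve.ofArrows W g) hS)
  refine hs.ext fun T t ht => ?_
  obtain ⟨_, c, _, ⟨i⟩, rfl⟩ := ht
  change G.obj.map (c ≫ g i).op a = G.obj.map (c ≫ g i).op b
  rw [← map_map, he, map_map]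

/-- sections glue -/
theorem exists_amalg {P : S.Etale} {ι : Type*} (Z : ι → S.Etale) (π : ∀ i, Z i ⟶ P)
    (hc : ∀ p, ∃ i, p ∈ Set.range (π i).left) (t : ∀ i, EtDesc.sect G (Z i))
    (h : ∀ i k (T : S.Etale) (a : T ⟶ Z i) (b : T ⟶ Z k), a ≫ π i = b ≫ π k →
      G.obj.map a.op (t i) = G.obj.map b.op (t k)) :
    ∃ s : EtDesc.sect G P, ∀ i, G.obj.map (π i).op s = t i := by
  have hmem : Sieve.ofArrows Z π ∈ S.smallEtaleTopology P := by
    rw [Scheme.ofArrows_mem_smallEtaleTopology_iff]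
    exact Set.eq_univ_of_forall fun p => Set.mem_iUnion.mpr (hc p)
  have hs : Presieve.IsSheafFor G.obj (Presieve.ofArrows Z π) := by
    rw [Presieve.isSheafFor_iff_generate]
    exact (isSheaf_iff_isSheaf_of_type _ _).mp G.property _ hmem
  rw [Presieve.isSheafFor_arrows_iff] at hs
  obtain ⟨s, hs, -⟩ := hs t h
  exact ⟨s, hs⟩

variable {Ω : Type u} [Field Ω] [IsSepClosed Ω] (ξ : Spec (CommRingCat.of Ω) ⟶ S)

theorem gm_map {U V : S.Etale} (φ : V ⟶ U) (y : Over.mk ξ ⟶ (Scheme.Etale.forget S).obj V) (s : EtDesc.sect G U) :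
    gm ξ G V y (G.obj.map φ.op s) = gm ξ G U ((Scheme.pointSmallEtale ξ).fiber.map φ y) s :=
  GrothendieckTopology.Point.toPresheafFiber_w_apply (Scheme.pointSmallEtale ξ) φ y G.obj s

/-- two sections have the same germ exactly when they agree near the point -/
theorem gm_eq_iff {U : S.Etale} (v : Over.mk ξ ⟶ (Scheme.Etale.forget S).obj U) (a b : EtDesc.sect G U) :
    gm ξ G U v a = gm ξ G U v b ↔ v.left (default : Spec (CommRingCat.of Ω)) ∈ eqLoc G U a b := by
  constructor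
  · intro h
    obtain ⟨W, g, y, hy, h2⟩ := (GrothendieckTopology.Point.toPresheafFiber_eq_iff'
      (P := G.obj) (Scheme.pointSmallEtale ξ) U v a b).mp h
    let y' : Over.mk ξ ⟶ (Scheme.Etale.forget S).obj W := y
    have hy2 : y'.left ≫ g.left = v.left := congrArg CommaMorphism.left hy
    exact ⟨W, g, ⟨y'.left (default : Spec (CommRingCat.of Ω)),
      congr($hy2 (default : Spec (CommRingCat.of Ω)))⟩, h2⟩
  · rintro ⟨W, g, ⟨w, hw⟩, h0⟩
    have := etale_left g
    obtain ⟨l, hl⟩ := Scheme.pointSmallEtaleFiberObjToPreimage_surjective (S := U.left)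
      v.left (s₀ := v.left (default : Spec (CommRingCat.of Ω))) rfl (Scheme.Etale.mk g.left) ⟨w, hw⟩
    let l' : Over.mk v.left ⟶ Over.mk g.left := l
    let y : (Scheme.pointSmallEtale ξ).fiber.obj W :=
      (Over.homMk l'.left (by
        change l'.left ≫ W.hom = ξ
        rw [← MorphismProperty.Over.w g, ← Category.assoc]
        exact (congrArg (· ≫ U.hom) (Over.w l')).trans (Over.w v)) : Over.mk ξ ⟶ (Scheme.Etale.forget S).obj W)
    refine (GrothendieckTopology.Point.toPresheafFiber_eq_iff' (P := G.obj) (Scheme.pointSmallEtale ξ) U v a b).mpr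
      ⟨W, g, y, ?_, h0⟩
    exact Over.OverMorphism.ext (Over.w l')

/-- common refinement of two neighbourhoods -/
theorem exists_common {U V : S.Etale} (x : Over.mk ξ ⟶ (Scheme.Etale.forget S).obj U)
    (y : Over.mk ξ ⟶ (Scheme.Etale.forget S).obj V) :
    ∃ (Z : S.Etale) (z : Over.mk ξ ⟶ (Scheme.Etale.forget S).obj Z) (a : Z ⟶ U) (b : Z ⟶ V),
      (Scheme.pointSmallEtale ξ).fiber.map a z = x ∧ (Scheme.pointSmallEtale ξ).fiber.map b z = y := by
  haveI := (Scheme.pointSmallEtale ξ).isCofiltered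
  let e₁ : (Scheme.pointSmallEtale ξ).fiber.Elements := ⟨U, x⟩
  let e₂ : (Scheme.pointSmallEtale ξ).fiber.Elements := ⟨V, y⟩
  obtain ⟨e, a, b, -⟩ := IsCofilteredOrEmpty.cone_objs e₁ e₂
  exact ⟨e.1, e.2, a.1, b.1, a.2, b.2⟩

theorem gm_surjective (z : (Scheme.pointSmallEtale ξ).presheafFiber.obj G.obj) :
    ∃ (V : S.Etale) (v : Over.mk ξ ⟶ (Scheme.Etale.forget S).obj V) (s : EtDesc.sect G V), gm ξ G V v s = z := by
  obtain ⟨V, v, s, rfl⟩ := (Scheme.pointSmallEtale ξ).toPresheafFiber_jointly_surjective (P := G.obj) z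
  exact ⟨V, v, s, rfl⟩

end Groth.Agent.EtShLib
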