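import Groth.Agent.EtShLib.Loc
import Groth.Agent.EtPushStalk.Basic
import Groth.Agent.EtStalk.Applications
import Mathlib

/-!
Germs of pulled back sections.
-/

set_option autoImplicit false
set_option backward.isDefEq.respectTransparency false
set_option maxHeartbeats 1000000
set_option linter.style.haveILetI false

universe w' v' u'

open CategoryTheory CategoryTheory.Limits Opposite

noncomputable section

namespace Groth.Agent.EtShLib

section General

variable {C D : Type*} [Category* C] [Category* D] {J : GrothendieckTopology C}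
  {K : GrothendieckTopology D} (F : C ⥤ D) (Ψ : GrothendieckTopology.Point.{w'} J)
  (Φ : GrothendieckTopology.Point.{w'} K) (α : F ⋙ Φ.fiber ≅ Ψ.fiber)
  {A : Type u'} [Category.{v'} A] [HasProducts.{w'} A] [HasColimitsOfSize.{w', w'} A]
  [Functor.IsContinuous F J K] [(F.sheafPushforwardContinuous A J K).IsRightAdjoint]

theorem toPresheafFiber_sheafFiberPullbackIso (G : Sheaf J A) (U : C) (x : Ψ.fiber.obj U) :
    Ψ.toPresheafFiber U x G.obj ≫ (EtStalk.sheafFiberPullbackIso F Ψ Φ α A).hom.app G =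
      ((F.sheafAdjunctionContinuous A J K).unit.app G).hom.app (op U) ≫
        Φ.toPresheafFiber (F.obj U) (α.inv.app U x) ((F.sheafPullback A J K).obj G).obj := by
  let adjΦ := Φ.skyscraperSheafAdjunction (A := A)
  let adj₁ := (F.sheafAdjunctionContinuous A J K).comp adjΦ
  let adj₂ := Ψ.skyscraperSheafAdjunction (A := A)
  let β := EtStalk.skyscraperPushIso F Ψ Φ α A (J := J) (K := K)
  let ι := (EtStalk.sheafFiberPullbackIso F Ψ Φ α A).hom.app G
  have h1 : adj₂.homEquiv _ _ ι = adj₁.unit.app G ≫ β.hom.app _ := by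
    rw [Adjunction.homEquiv_unit]
    exact (unit_conjugateEquiv_symm adj₁ adj₂ β.hom _).symm
  have hR : (adj₂.homEquiv G _ ι).hom.app (op U) ≫
      Pi.π (fun _ : Ψ.fiber.obj U => Φ.sheafFiber.obj ((F.sheafPullback A J K).obj G)) x =
      Ψ.toPresheafFiber U x G.obj ≫ ι := by
    erw [GrothendieckTopology.Point.skyscraperSheafAdjunction_homEquiv_apply_hom]
    exact GrothendieckTopology.Point.skyscraperPresheafHomEquiv_app_π _ _ _ _
  have hL : (adjΦ.unit.app ((F.sheafPullback A J K).obj G)).hom.app (op (F.obj U)) ≫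
      Pi.π (fun _ : Φ.fiber.obj (F.obj U) => Φ.sheafFiber.obj ((F.sheafPullback A J K).obj G)) (α.inv.app U x) =
      Φ.toPresheafFiber (F.obj U) (α.inv.app U x) ((F.sheafPullback A J K).obj G).obj ≫ 𝟙 _ := by
    rw [show adjΦ.unit.app ((F.sheafPullback A J K).obj G) = adjΦ.homEquiv _ _ (𝟙 _) from
      (adjΦ.homEquiv_id _).symm]
    erw [GrothendieckTopology.Point.skyscraperSheafAdjunction_homEquiv_apply_hom]
    exact GrothendieckTopology.Point.skyscraperPresheafHomEquiv_app_π _ _ _ _
  have hπ : (β.hom.app (Φ.sheafFiber.obj ((F.sheafPullback A J K).obj G))).hom.app (op U) ≫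
      Pi.π (fun _ : Ψ.fiber.obj U => Φ.sheafFiber.obj ((F.sheafPullback A J K).obj G)) x =
      Pi.π (fun _ : Φ.fiber.obj (F.obj U) => Φ.sheafFiber.obj ((F.sheafPullback A J K).obj G)) (α.inv.app U x) := by
    change Pi.map' (f := fun _ : Φ.fiber.obj (F.obj U) => Φ.sheafFiber.obj ((F.sheafPullback A J K).obj G))
        (g := fun _ : Ψ.fiber.obj U => Φ.sheafFiber.obj ((F.sheafPullback A J K).obj G))
        (fun y => α.inv.app U y) (fun _ => 𝟙 _) ≫
      Pi.π (fun _ : Ψ.fiber.obj U => Φ.sheafFiber.obj ((F.sheafPullback A J K).obj G)) x = _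
    rw [Pi.map'_comp_π, Category.comp_id]
  rw [← hR, h1]
  simp only [adj₁, Adjunction.comp_unit_app, ObjectProperty.FullSubcategory.comp_hom, NatTrans.comp_app,
    Category.assoc]
  erw [hπ, hL, Category.comp_id]

end General

universe u
open AlgebraicGeometry

theorem stalkPullShIso_gm {T S : Scheme.{u}} (f : T ⟶ S) {Ω : Type u} [Field Ω] [IsSepClosed Ω]
    (ξ : Spec (CommRingCat.of Ω) ⟶ T) (G : EtDesc.Sh S) (V : S.Etale)
    (v : Over.mk (ξ ≫ f) ⟶ (Scheme.Etale.forget S).obj V) (t : EtDesc.sect G V) :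
    (EtStalk.stalkPullShIso f ξ).hom.app G (gm (ξ ≫ f) G V v t) =
      gm ξ ((EtDesc.pullSh f).obj G) ((EtCoh.bc f).obj V) (EtPushStalk.up f ξ v)
        (((EtDesc.adjSh f).unit.app G).hom.app (op V) t) := by
  have h := toPresheafFiber_sheafFiberPullbackIso (EtCoh.bc f) (Scheme.pointSmallEtale (ξ ≫ f))
    (Scheme.pointSmallEtale ξ) (EtStalk.fiberIso f ξ) (A := Type (u + 1)) G V v
  have hu : (EtStalk.fiberIso f ξ).inv.app V v = EtPushStalk.up f ξ v := by
    refine Over.OverMorphism.ext ?_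
    apply pullback.hom_ext <;> simp [EtStalk.fiberIso, EtPushStalk.up, Over.mapPullbackAdj]
  refine Eq.trans (ConcreteCategory.congr_hom h t) ?_
  rw [hu]
  rfl

/-- the comparison of stalks given by pulling back sections -/
theorem exists_pullGerm {T S : Scheme.{u}} (f : T ⟶ S) {Ω : Type u} [Field Ω] [IsSepClosed Ω]
    (ξ : Spec (CommRingCat.of Ω) ⟶ T) (η : Spec (CommRingCat.of Ω) ⟶ S) (hξ : ξ ≫ f = η) (G : EtDesc.Sh S) :
    ∃ γ : (Scheme.pointSmallEtale η).presheafFiber.obj G.obj →
        (Scheme.pointSmallEtale ξ).presheafFiber.obj ((EtDesc.pullSh f).obj G).obj,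
      Function.Bijective γ ∧ ∀ (V : S.Etale) (v : Over.mk η ⟶ (Scheme.Etale.forget S).obj V) (g : EtDesc.sect G V),
        γ (gm η G V v g) = gm ξ ((EtDesc.pullSh f).obj G) ((EtCoh.bc f).obj V)
          (EtPushStalk.up f ξ (Over.homMk v.left ((Over.w v).trans hξ.symm)))
          (((EtDesc.adjSh f).unit.app G).hom.app (op V) g) := by
  subst hξ
  refine ⟨fun z => (EtStalk.stalkPullShIso f ξ).hom.app G z,
    (isIso_iff_bijective _).mp inferInstance, fun V v g => ?_⟩
  exact stalkPullShIso_gm f ξ G V v g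

end Groth.Agent.EtShLib
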