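import Groth.Agent.EtShLib.LimSect
import Groth.Agent.EtIntegral.BaseChange
import Groth.Prelude.Def_EtBCD
import Mathlib

/-!
Nested pullbacks of sections and the unit formula for the base change map of sheaves of sets.
-/

set_option autoImplicit false
set_option backward.isDefEq.respectTransparency false
set_option backward.isDefEq.respectTransparency.types false
set_option maxHeartbeats 1000000
set_option linter.style.haveILetI false

universe u

open CategoryTheory CategoryTheory.Limits AlgebraicGeometry Opposite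

noncomputable section

namespace Groth.Agent.EtShLib

/-- pulling back twice is pulling back along the composite, compatibly with pulled back sections -/
theorem exists_nested {W B S : Scheme.{u}} (a : W ⟶ B) (b : B ⟶ S) (k : W ⟶ S) (hk : a ≫ b = k) (F : EtDesc.Sh S) :
    ∃ θ : (EtDesc.pullSh a).obj ((EtDesc.pullSh b).obj F) ⟶ (EtDesc.pullSh k).obj F, IsIso θ ∧
      ∀ (T : W.Etale) (o : S.Etale) (δ₁ : T ⟶ (EtCoh.bc a).obj ((EtCoh.bc b).obj o)) (δ : T ⟶ (EtCoh.bc k).obj o),
        δ₁.left ≫ pullback.fst ((EtCoh.bc b).obj o).hom a ≫ pullback.fst o.hom b = δ.left ≫ pullback.fst o.hom k →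
        ∀ s : EtDesc.sect F o,
          θ.hom.app (op T) (ru a ((EtDesc.pullSh b).obj F) δ₁ (unitSect b F o s)) = ru k F δ s := by
  subst hk
  let adjC := ((EtDesc.adjSh b).comp (EtDesc.adjSh a)).ofNatIsoRight (EtDesc.pushCompSh b a)
  refine ⟨((EtDesc.pullCompSh a b).app F).inv, inferInstance, fun T o δ₁ δ h s => ?_⟩
  let θ := ((EtDesc.pullCompSh a b).app F).inv
  let K := (MorphismProperty.Over.pullbackComp (P := EtCoh.etaleMP) (Q := ⊤) a b).app o
  have hu : adjC.unit.app F ≫ (EtDesc.pushSh (a ≫ b)).map θ = (EtDesc.adjSh (a ≫ b)).unit.app F := by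
    rw [← Adjunction.unit_leftAdjointUniq_hom_app (EtDesc.adjSh (a ≫ b)) adjC F, Category.assoc, ← Functor.map_comp]
    refine Eq.trans (congrArg (fun m => _ ≫ (EtDesc.pushSh (a ≫ b)).map m) ?_) (by rw [CategoryTheory.Functor.map_id, Category.comp_id])
    exact ((EtDesc.pullCompSh a b).app F).hom_inv_id
  have h1 : θ.hom.app (op ((EtCoh.bc (a ≫ b)).obj o))
      (((EtDesc.pullSh a).obj ((EtDesc.pullSh b).obj F)).obj.map K.hom.op
        (unitSect a ((EtDesc.pullSh b).obj F) ((EtCoh.bc b).obj o) (unitSect b F o s))) = unitSect (a ≫ b) F o s := by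
    have := congrArg (fun m : F ⟶ (EtDesc.pushSh (a ≫ b)).obj ((EtDesc.pullSh (a ≫ b)).obj F) => m.hom.app (op o) s) hu
    refine Eq.trans ?_ this
    simp only [adjC, Adjunction.ofNatIsoRight, Adjunction.mkOfHomEquiv_unit_app]
    simp [EtDesc.pushCompSh, Adjunction.homEquiv_unit]
    exact NatTrans.naturality_apply θ.hom K.hom.op _
  have hδ : δ₁ = δ ≫ K.hom := by
    refine bc_ext a (pullback.hom_ext ?_ ?_)
    · rw [Category.assoc, Category.assoc, h]
      refine Eq.trans ?_ (Category.assoc δ.left K.hom.left _).symm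
      exact congrArg (δ.left ≫ ·) (MorphismProperty.Over.pullbackComp_left_fst_fst a b o).symm
    · rw [Category.assoc, Category.assoc]
      have e₁ : δ₁.left ≫ pullback.fst ((EtCoh.bc b).obj o).hom a ≫ pullback.snd o.hom b = T.hom ≫ a := by
        rw [show pullback.snd o.hom b = ((EtCoh.bc b).obj o).hom from rfl, pullback.condition, ← Category.assoc]
        exact congrArg (· ≫ a) (MorphismProperty.Over.w δ₁)
      have e₂ : (δ ≫ K.hom).left ≫ pullback.fst ((EtCoh.bc b).obj o).hom a ≫ pullback.snd o.hom b = T.hom ≫ a := by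
        rw [show pullback.snd o.hom b = ((EtCoh.bc b).obj o).hom from rfl, pullback.condition, ← Category.assoc]
        exact congrArg (· ≫ a) (MorphismProperty.Over.w (δ ≫ K.hom))
      exact e₁.trans e₂.symm
  subst hδ
  rw [← map_ru, ru, ru]
  refine (NatTrans.naturality_apply θ.hom δ.op _).trans (congrArg _ ?_)
  exact h1

variable {X S X' S' : Scheme.{u}} (f : X ⟶ S) (g : S' ⟶ S) (f' : X' ⟶ S') (g' : X' ⟶ X)
  (w : g' ≫ f = f' ≫ g)

/-- the base change map on pulled back sections -/
theorem baseChange0Sh_unit (F : EtDesc.Sh X) (V : S.Etale) (t : EtDesc.sect F ((EtCoh.bc f).obj V)) :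
    (EtBC.baseChange0Sh f g f' g' w F).hom.app (op ((EtCoh.bc g).obj V))
        (unitSect g ((EtDesc.pushSh f).obj F) V t) =
      ((EtDesc.pullSh g').obj F).obj.map (Groth.Agent.EtIntegral.bcSwap f g f' g' w V).op
        (unitSect g' F ((EtCoh.bc f).obj V) t) := by
  have h := ((EtDesc.adjSh g).homEquiv_unit (f := EtBC.baseChange0Sh f g f' g' w F)).symm
  rw [EtBC.baseChange0Sh, Equiv.apply_symm_apply] at h
  refine (ConcreteCategory.congr_hom (congrArg (fun m : (EtDesc.pushSh f).obj F ⟶
    (EtDesc.pushSh g).obj ((EtDesc.pushSh f').obj ((EtDesc.pullSh g').obj F)) => m.hom.app (op V)) h) t).trans ?_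
  simp only [Groth.Agent.EtIntegral.bcSwap, op_comp, Functor.map_comp, ConcreteCategory.comp_apply]
  rfl

end Groth.Agent.EtShLib
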