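import Groth.Agent.EtShLib.PushStalk
import Groth.Agent.EtShLib.Nested
import Groth.Agent.EtBCQ.FieldPt
import Groth.Agent.EtBCQ.StrictSys
import Groth.Agent.EtStalk.Sheaf
import Mathlib

/-!
Criterion for base change of sheaves of sets on strict localisations.
-/

set_option autoImplicit false
set_option backward.isDefEq.respectTransparency false
set_option backward.isDefEq.respectTransparency.types false
set_option maxHeartbeats 1000000
set_option linter.style.haveILetI false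
set_option linter.unusedSectionVars false
set_option linter.overlappingInstances false

universe u

open CategoryTheory CategoryTheory.Limits AlgebraicGeometry Opposite IsLocalRing

noncomputable section

namespace Groth.Agent.EtShLib

open Groth.Agent.EtStrictLoc

variable {X Y X' Y' : Scheme.{u}} (f : X ⟶ Y) (g : Y' ⟶ Y) (f' : X' ⟶ Y') (g' : X' ⟶ X)
  (w : g' ≫ f = f' ≫ g) {y' : Y'} (QY : EtBCQ.SH Y (g y')) (Q' : EtBCQ.SH Y' y') (φ : QY.R →+* Q'.R)
  (hφ : Spec.map (CommRingCat.ofHom φ) ≫ QY.spec = Q'.spec ≫ g)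

/-- the map of base changes to strict localisations -/
def xMap : xR f' y' Q'.R ⟶ xR f (g y') QY.R :=
  pullback.lift (pullback.fst f' Q'.spec ≫ g') (pullback.snd f' Q'.spec ≫ Spec.map (CommRingCat.ofHom φ)) (by
    rw [Category.assoc, w, ← Category.assoc, pullback.condition, Category.assoc, Category.assoc]
    exact congrArg (pullback.snd f' Q'.spec ≫ ·) hφ.symm)

theorem isPullback_xMap (h : IsPullback g' f' f g) :
    IsPullback (xMap f g f' g' h.w QY Q' φ hφ) (pullback.snd f' Q'.spec) (pullback.snd f QY.spec)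
      (Spec.map (CommRingCat.ofHom φ)) := by
  refine IsPullback.of_right ?_ (pullback.lift_snd _ _ _) (IsPullback.of_hasPullback f QY.spec)
  rw [show xMap f g f' g' h.w QY Q' φ hφ ≫ pullback.fst f QY.spec = pullback.fst f' Q'.spec ≫ g' from
    pullback.lift_fst _ _ _, hφ]
  exact (IsPullback.of_hasPullback f' Q'.spec).paste_horiz h

variable [IsLocalHom φ]

/-- the induced extension of residue fields -/
abbrev resExt : ResidueField QY.R →+* ResidueField Q'.R := ResidueField.map φ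

include hφ in
theorem geomPt_comp :
    Hens2.geomPt Y' y' Q'.R ≫ g =
      Spec.map (CommRingCat.ofHom (resExt g QY Q' φ)) ≫ Hens2.geomPt Y (g y') QY.R := by
  rw [Hens2.geomPt, Hens2.geomPt, Category.assoc]
  refine (congrArg (Spec.map (CommRingCat.ofHom (residue Q'.R)) ≫ ·) hφ.symm).trans ?_
  refine Eq.trans ?_ (Category.assoc _ _ _)
  refine (Category.assoc _ _ _).symm.trans (congrArg (· ≫ QY.spec) ?_)
  rw [← Spec.map_comp, ← Spec.map_comp]
  rfl

/-- neighbourhoods of the geometric point of the base give neighbourhoods upstairs -/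
def upv (V : Y.Etale) (v : (fib Y (g y') QY.R).obj V) : (fib Y' y' Q'.R).obj ((EtCoh.bc g).obj V) :=
  EtPushStalk.up g (Hens2.geomPt Y' y' Q'.R)
    (EtBCQ.upPt (resExt g QY Q' φ) (Hens2.geomPt Y (g y') QY.R) (Hens2.geomPt Y' y' Q'.R ≫ g)
      (geomPt_comp g QY Q' φ hφ).symm V v)

theorem upv_fst (V : Y.Etale) (v : (fib Y (g y') QY.R).obj V) :
    (upv g QY Q' φ hφ V v).left ≫ pullback.fst V.hom g = Spec.map (CommRingCat.ofHom (resExt g QY Q' φ)) ≫ v.left :=
  pullback.lift_fst _ _ _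

/-- the lifted point upstairs lies over the lifted point of the base -/
theorem liftPt_upv_fst (V : Y.Etale) (v : (fib Y (g y') QY.R).obj V) :
    liftPt y' Q'.R ((EtCoh.bc g).obj V) (upv g QY Q' φ hφ V v) ≫ pullback.fst V.hom g =
      Spec.map (CommRingCat.ofHom φ) ≫ liftPt (g y') QY.R V v := by
  haveI : Etale V.hom := V.prop
  refine ext_of_closed V.hom ?_ ?_
  · rw [Category.assoc, pullback.condition, Category.assoc, liftPt_w]
    refine Eq.trans ?_ hφ.symm
    exact (Category.assoc _ _ _).symm.trans (congrArg (· ≫ g) (liftPt_w y' Q'.R ((EtCoh.bc g).obj V) _))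
  · refine ((Category.assoc _ _ _).symm.trans (congrArg (· ≫ pullback.fst V.hom g)
      (liftPt_pt y' Q'.R ((EtCoh.bc g).obj V) (upv g QY Q' φ hφ V v)))).trans ?_
    refine (upv_fst g QY Q' φ hφ V v).trans ?_
    rw [← liftPt_pt (g y') QY.R V v, ← Category.assoc, ← Category.assoc]
    refine congrArg (· ≫ liftPt (g y') QY.R V v) ?_
    show _ ≫ Spec.map (CommRingCat.ofHom (residue QY.R)) = _
    rw [← Spec.map_comp, ← Spec.map_comp]
    rfl

omit [IsLocalHom φ] in
/-- following a map through the exchange of base changes -/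
theorem comp_bcSwap {T : Scheme.{u}} (V : Y.Etale) (a : T ⟶ ((EtCoh.bc f').obj ((EtCoh.bc g).obj V)).left)
    {b : T ⟶ V.left} {c : T ⟶ X'} (hab : a ≫ pullback.fst (pullback.snd V.hom g) f' ≫ pullback.fst V.hom g = b)
    (hac : a ≫ pullback.snd (pullback.snd V.hom g) f' = c) :
    (a ≫ (Groth.Agent.EtIntegral.bcSwap f g f' g' w V).left ≫ pullback.fst (pullback.snd V.hom f) g') ≫
        pullback.fst V.hom f = b ∧
      (a ≫ (Groth.Agent.EtIntegral.bcSwap f g f' g' w V).left ≫ pullback.fst (pullback.snd V.hom f) g') ≫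
        pullback.snd V.hom f = c ≫ g' := by
  refine ⟨?_, ?_⟩
  · refine Eq.trans ?_ hab
    rw [Category.assoc, Category.assoc]
    exact congrArg (a ≫ ·) (Groth.Agent.EtIntegral.bcSwap_fst f g f' g' w V)
  · have e : (Groth.Agent.EtIntegral.bcSwap f g f' g' w V).left ≫ pullback.snd (pullback.snd V.hom f) g' =
        pullback.snd (pullback.snd V.hom g) f' := MorphismProperty.Over.w _
    rw [← hac, Category.assoc, Category.assoc, pullback.condition, ← Category.assoc _ _ g', e, Category.assoc]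

/-- the section over the strict localisation upstairs, seen through the exchange -/
theorem δV_swap (V : Y.Etale) (v : (fib Y (g y') QY.R).obj V) :
    (δV f' y' Q'.R ((EtCoh.bc g).obj V) (liftPt y' Q'.R ((EtCoh.bc g).obj V) (upv g QY Q' φ hφ V v))
        (liftPt_w _ _ _ _) ≫
      (EtCoh.bc (pullback.fst f' Q'.spec)).map (Groth.Agent.EtIntegral.bcSwap f g f' g' w V)).left ≫
        pullback.fst ((EtCoh.bc g').obj ((EtCoh.bc f).obj V)).hom (pullback.fst f' Q'.spec) ≫
          pullback.fst ((EtCoh.bc f).obj V).hom g' =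
      xMap f g f' g' w QY Q' φ hφ ≫ pullback.lift (pullback.snd f QY.spec ≫ liftPt (g y') QY.R V v)
        (pullback.fst f QY.spec) (by rw [Category.assoc, liftPt_w]; exact pullback.condition.symm) := by
  let d := δV f' y' Q'.R ((EtCoh.bc g).obj V) (liftPt y' Q'.R ((EtCoh.bc g).obj V) (upv g QY Q' φ hφ V v))
    (liftPt_w _ _ _ _)
  let a := d.left ≫ pullback.fst ((EtCoh.bc f').obj ((EtCoh.bc g).obj V)).hom (pullback.fst f' Q'.spec)
  have ha : a = pullback.lift (pullback.snd f' Q'.spec ≫ liftPt y' Q'.R ((EtCoh.bc g).obj V) (upv g QY Q' φ hφ V v))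
      (pullback.fst f' Q'.spec) (by rw [Category.assoc, liftPt_w]; exact pullback.condition.symm) := mkδ_fst _ _ _
  obtain ⟨h1, h2⟩ := comp_bcSwap f g f' g' w V a
    (b := xMap f g f' g' w QY Q' φ hφ ≫ pullback.snd f QY.spec ≫ liftPt (g y') QY.R V v) (c := pullback.fst f' Q'.spec)
    (by
      rw [ha]
      refine (Category.assoc _ _ _).symm.trans ((congrArg (· ≫ pullback.fst V.hom g) (pullback.lift_fst _ _ _)).trans ?_)
      rw [Category.assoc, liftPt_upv_fst, ← Category.assoc, ← Category.assoc]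
      exact congrArg (· ≫ liftPt (g y') QY.R V v) (pullback.lift_snd _ _ _).symm)
    (by rw [ha]; exact pullback.lift_snd _ _ _)
  refine Eq.trans ?_ (Eq.trans (b := a ≫ (Groth.Agent.EtIntegral.bcSwap f g f' g' w V).left ≫
    pullback.fst (pullback.snd V.hom f) g') rfl ?_)
  · refine (Category.assoc d.left _ _).trans ?_
    refine (congrArg (d.left ≫ ·) ((Category.assoc _ _ _).symm.trans ((congrArg (· ≫ pullback.fst _ g')
      (bc_map_fst (pullback.fst f' Q'.spec) (Groth.Agent.EtIntegral.bcSwap f g f' g' w V))).trans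
        (Category.assoc _ _ _)))).trans ?_
    exact (Category.assoc _ _ _).symm
  · apply pullback.hom_ext
    · refine h1.trans ?_
      rw [Category.assoc, pullback.lift_fst]
    · refine h2.trans ?_
      rw [Category.assoc, pullback.lift_snd]
      exact (pullback.lift_fst _ _ _).symm

include w in
/-- pulling back a section and exchanging is pulling back its value -/
theorem val_bcSwap (F : EtDesc.Sh X) {θ₁ : (EtDesc.pullSh (xMap f g f' g' w QY Q' φ hφ)).obj
      ((EtDesc.pullSh (pullback.fst f QY.spec)).obj F) ⟶ (EtDesc.pullSh (pullback.fst f' Q'.spec ≫ g')).obj F}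
    (hθ₁ : ∀ (T : (xR f' y' Q'.R).Etale) (o : X.Etale) δ₁ (δ : T ⟶ (EtCoh.bc (pullback.fst f' Q'.spec ≫ g')).obj o),
      δ₁.left ≫ pullback.fst ((EtCoh.bc (pullback.fst f QY.spec)).obj o).hom (xMap f g f' g' w QY Q' φ hφ) ≫
          pullback.fst o.hom (pullback.fst f QY.spec) = δ.left ≫ pullback.fst o.hom _ →
      ∀ s : EtDesc.sect F o, θ₁.hom.app (op T) (ru _ _ δ₁ (unitSect _ F o s)) = ru _ F δ s)
    {θ₂ : (EtDesc.pullSh (pullback.fst f' Q'.spec)).obj ((EtDesc.pullSh g').obj F) ⟶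
      (EtDesc.pullSh (pullback.fst f' Q'.spec ≫ g')).obj F}
    (hθ₂ : ∀ (T : (xR f' y' Q'.R).Etale) (o : X.Etale) δ₁ (δ : T ⟶ (EtCoh.bc (pullback.fst f' Q'.spec ≫ g')).obj o),
      δ₁.left ≫ pullback.fst ((EtCoh.bc g').obj o).hom (pullback.fst f' Q'.spec) ≫ pullback.fst o.hom g' =
        δ.left ≫ pullback.fst o.hom _ →
      ∀ s : EtDesc.sect F o, θ₂.hom.app (op T) (ru _ _ δ₁ (unitSect _ F o s)) = ru _ F δ s)
    (V : Y.Etale) (v : (fib Y (g y') QY.R).obj V) (s : EtDesc.sect F ((EtCoh.bc f).obj V)) :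
    θ₂.hom.app (op (EtCoh.top (xR f' y' Q'.R))) (val f' y' Q'.R ((EtDesc.pullSh g').obj F) ((EtCoh.bc g).obj V)
        (upv g QY Q' φ hφ V v) (((EtDesc.pullSh g').obj F).obj.map (Groth.Agent.EtIntegral.bcSwap f g f' g' w V).op
          (unitSect g' F ((EtCoh.bc f).obj V) s))) =
      θ₁.hom.app (op (EtCoh.top (xR f' y' Q'.R))) (ru (xMap f g f' g' w QY Q' φ hφ)
        ((EtDesc.pullSh (pullback.fst f QY.spec)).obj F)
        (mkδ (T := EtCoh.top (xR f' y' Q'.R)) (o := EtCoh.top (xR f (g y') QY.R)) (xMap f g f' g' w QY Q' φ hφ)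
          (xMap f g f' g' w QY Q' φ hφ) ((Category.comp_id _).trans (Category.id_comp _).symm))
        (val f (g y') QY.R F V v s)) := by
  have hw : (xMap f g f' g' w QY Q' φ hφ ≫ pullback.lift (pullback.snd f QY.spec ≫ liftPt (g y') QY.R V v)
        (pullback.fst f QY.spec) (by rw [Category.assoc, liftPt_w]; exact pullback.condition.symm)) ≫
      ((EtCoh.bc f).obj V).hom = (EtCoh.top (xR f' y' Q'.R)).hom ≫ pullback.fst f' Q'.spec ≫ g' := by
    show (_ ≫ pullback.lift _ _ _) ≫ pullback.snd V.hom f = 𝟙 _ ≫ _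
    rw [Category.assoc, pullback.lift_snd, Category.id_comp]
    exact pullback.lift_fst _ _ _
  let δk := mkδ (pullback.fst f' Q'.spec ≫ g') (T := EtCoh.top (xR f' y' Q'.R)) (o := (EtCoh.bc f).obj V) _ hw
  rw [val, val, ru_res]
  refine (hθ₂ _ ((EtCoh.bc f).obj V) _ δk ?_ s).trans ?_
  · refine Eq.trans ?_ (mkδ_fst _ _ _).symm
    exact δV_swap f g f' g' w QY Q' φ hφ V v
  · refine Eq.trans ?_ (congrArg (θ₁.hom.app (op (EtCoh.top (xR f' y' Q'.R)))) (ru_res _ _
      (δV f (g y') QY.R V (liftPt (g y') QY.R V v) (liftPt_w _ _ _ _)) _ _)).symm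
    refine ((hθ₁ _ ((EtCoh.bc f).obj V) _ δk ?_ s)).symm
    refine Eq.trans ?_ (mkδ_fst _ _ _).symm
    refine (Category.assoc _ _ _).trans ?_
    refine (congrArg (_ ≫ ·) ((Category.assoc _ _ _).symm.trans ((congrArg (· ≫ pullback.fst _ _)
      (bc_map_fst (xMap f g f' g' w QY Q' φ hφ) (δV f (g y') QY.R V (liftPt (g y') QY.R V v) (liftPt_w _ _ _ _)))).trans
        (Category.assoc _ _ _)))).trans ?_
    rw [← Category.assoc, mkδ_fst]
    exact congrArg (xMap f g f' g' w QY Q' φ hφ ≫ ·) (mkδ_fst _ _ _)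

variable [QuasiCompact f] [QuasiSeparated f] [QuasiCompact f'] [QuasiSeparated f']

include w hφ in
/-- bijectivity on a stalk from bijectivity of pullback on the strict localisations -/
theorem bijective_stalk_of_strict
    (H : ∀ G : EtDesc.Sh (xR f (g y') QY.R), Function.Bijective
      (ru (xMap f g f' g' w QY Q' φ hφ) G
        (mkδ (T := EtCoh.top (xR f' y' Q'.R)) (o := EtCoh.top (xR f (g y') QY.R)) (xMap f g f' g' w QY Q' φ hφ)
          (xMap f g f' g' w QY Q' φ hφ) ((Category.comp_id _).trans (Category.id_comp _).symm))))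
    (F : EtDesc.Sh X) :
    Function.Bijective ((Scheme.pointSmallEtale (Hens2.geomPt Y' y' Q'.R)).presheafFiber.map
      (EtBC.baseChange0Sh f g f' g' w F).hom) := by
  let ξ' := Hens2.geomPt Y' y' Q'.R
  let ξY := Hens2.geomPt Y (g y') QY.R
  let η := ξ' ≫ g
  have hη : Spec.map (CommRingCat.ofHom (resExt g QY Q' φ)) ≫ ξY = η := (geomPt_comp g QY Q' φ hφ).symm
  let P := (EtDesc.pushSh f).obj F
  let G' := (EtDesc.pullSh g').obj F
  let m := xMap f g f' g' w QY Q' φ hφ
  let πY := pullback.fst f QY.spec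
  let π' := pullback.fst f' Q'.spec
  let k := π' ≫ g'
  have hm : m ≫ πY = k := pullback.lift_fst _ _ _
  have hms : m ≫ pullback.snd f QY.spec = pullback.snd f' Q'.spec ≫ Spec.map (CommRingCat.ofHom φ) :=
    pullback.lift_snd _ _ _
  obtain ⟨θ₁, hθ₁i, hθ₁⟩ := exists_nested m πY k hm F
  obtain ⟨θ₂, hθ₂i, hθ₂⟩ := exists_nested π' g' k rfl F
  have hb₁ : Function.Bijective (θ₁.hom.app (op (EtCoh.top (xR f' y' Q'.R)))) := by
    haveI : IsIso θ₁.hom := inferInstanceAs (IsIso ((sheafToPresheaf _ _).map θ₁))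
    exact ConcreteCategory.bijective_of_isIso _
  have hb₂ : Function.Bijective (θ₂.hom.app (op (EtCoh.top (xR f' y' Q'.R)))) := by
    haveI : IsIso θ₂.hom := inferInstanceAs (IsIso ((sheafToPresheaf _ _).map θ₂))
    exact ConcreteCategory.bijective_of_isIso _
  let δm : EtCoh.top (xR f' y' Q'.R) ⟶ (EtCoh.bc m).obj (EtCoh.top (xR f (g y') QY.R)) :=
    mkδ (T := EtCoh.top (xR f' y' Q'.R)) m m ((Category.comp_id _).trans (Category.id_comp _).symm)
  obtain ⟨γ, hγ, hγg⟩ := exists_pullGerm g ξ' η rfl P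
  let vu : ∀ (V : Y.Etale), (fib Y (g y') QY.R).obj V → (Over.mk η ⟶ (Scheme.Etale.forget Y).obj V) :=
    fun V v => EtBCQ.upPt (resExt g QY Q' φ) ξY η hη V v
  let wu : ∀ (V : Y.Etale), (fib Y (g y') QY.R).obj V → (fib Y' y' Q'.R).obj ((EtCoh.bc g).obj V) :=
    upv g QY Q' φ hφ
  have key : ∀ (V : Y.Etale) (v : (fib Y (g y') QY.R).obj V) (s : EtDesc.sect F ((EtCoh.bc f).obj V)),
      θ₂.hom.app (op (EtCoh.top (xR f' y' Q'.R))) (val f' y' Q'.R G' ((EtCoh.bc g).obj V) (wu V v)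
        (G'.obj.map (Groth.Agent.EtIntegral.bcSwap f g f' g' w V).op (unitSect g' F ((EtCoh.bc f).obj V) s))) =
      θ₁.hom.app (op (EtCoh.top (xR f' y' Q'.R)))
        (ru m ((EtDesc.pullSh πY).obj F) δm (val f (g y') QY.R F V v s)) :=
    fun V v s => val_bcSwap f g f' g' w QY Q' φ hφ F hθ₁ hθ₂ V v s
  -- the map on germs
  have bcm : ∀ (V : Y.Etale) (v : (fib Y (g y') QY.R).obj V) (s : EtDesc.sect F ((EtCoh.bc f).obj V)),
      (Scheme.pointSmallEtale ξ').presheafFiber.map (EtBC.baseChange0Sh f g f' g' w F).hom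
          (γ (gm η P V (vu V v) s)) =
        gm ξ' ((EtDesc.pushSh f').obj G') ((EtCoh.bc g).obj V) (wu V v)
          (G'.obj.map (Groth.Agent.EtIntegral.bcSwap f g f' g' w V).op (unitSect g' F ((EtCoh.bc f).obj V) s)) := by
    intro V v s
    rw [hγg]
    refine (GrothendieckTopology.Point.toPresheafFiber_naturality_apply (Scheme.pointSmallEtale ξ')
      (EtBC.baseChange0Sh f g f' g' w F).hom _ _ _).trans ?_
    exact congrArg (gm ξ' ((EtDesc.pushSh f').obj G') ((EtCoh.bc g).obj V) (wu V v)) (baseChange0Sh_unit f g f' g' w F V s)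
  constructor
  · intro z₁ z₂ hz
    obtain ⟨a₁, rfl⟩ := hγ.2 z₁
    obtain ⟨a₂, rfl⟩ := hγ.2 z₂
    obtain ⟨V₁, v₁, s₁, rfl⟩ := gm_surjective (G := P) η a₁
    obtain ⟨V₂, v₂, s₂, rfl⟩ := gm_surjective (G := P) η a₂
    obtain ⟨V, v, a, b, ha, hb⟩ := exists_common η v₁ v₂
    rw [← ha, ← hb, ← gm_map, ← gm_map] at hz ⊢
    obtain ⟨v₀, rfl⟩ := (EtBCQ.upPt_bijective (resExt g QY Q' φ) ξY η hη V).2 v
    have h1 := ((bcm V v₀ _).symm.trans hz).trans (bcm V v₀ _)
    have h2 := congrArg (θ₂.hom.app (op (EtCoh.top (xR f' y' Q'.R)))) (val_of_gm_eq f' y' Q'.R G' _ _ _ h1)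
    rw [key, key] at h2
    have h3 := gm_eq_of_val_eq f (g y') QY.R F v₀ _ _ ((H _).1 (hb₁.1 h2))
    obtain ⟨W, c, w₀, hw₀, he⟩ := (GrothendieckTopology.Point.toPresheafFiber_eq_iff'
      (P := P.obj) (Scheme.pointSmallEtale ξY) V v₀ _ _).mp h3
    refine congrArg γ ((GrothendieckTopology.Point.toPresheafFiber_eq_iff'
      (P := P.obj) (Scheme.pointSmallEtale η) V (EtBCQ.upPt (resExt g QY Q' φ) ξY η hη V v₀) _ _).mpr
      ⟨W, c, EtBCQ.upPt (resExt g QY Q' φ) ξY η hη W w₀, ?_, he⟩)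
    rw [EtBCQ.upPt_map, hw₀]
  · intro z
    obtain ⟨V', v', σ, rfl⟩ := gm_surjective (G := (EtDesc.pushSh f').obj G') ξ' z
    obtain ⟨t₁, ht₁⟩ := hb₁.2 (θ₂.hom.app (op (EtCoh.top (xR f' y' Q'.R))) (val f' y' Q'.R G' V' v' σ))
    obtain ⟨t, rfl⟩ := (H ((EtDesc.pullSh πY).obj F)).2 t₁
    obtain ⟨V, v, s, rfl⟩ := exists_val_eq f (g y') QY.R F t
    refine ⟨γ (gm η P V (vu V v) s), ?_⟩
    rw [bcm]
    refine gm_eq_of_val_eq' f' y' Q'.R G' _ _ _ _ (hb₂.1 ?_)
    rw [key]
    exact ht₁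

end Groth.Agent.EtShLib
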