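import Groth.Agent.EtShLib.LimSect
import Groth.Agent.EtStrictLoc.Theta
import Mathlib

/-!
Germs of a direct image of a sheaf of sets are sections over the base change to the strict localisation.
-/

set_option autoImplicit false
set_option backward.isDefEq.respectTransparency false
set_option backward.isDefEq.respectTransparency.types false
set_option maxHeartbeats 1000000
set_option linter.style.haveILetI false
set_option linter.unusedSectionVars false
set_option linter.overlappingInstances false

universe u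

open CategoryTheory CategoryTheory.Limits AlgebraicGeometry Opposite IsLocalRing

noncomputable section

namespace Groth.Agent.EtShLib

open Groth.Agent.EtStrictLoc

variable {X S : Scheme.{u}} (f : X ⟶ S) (s : S) (R : Type u) [CommRing R] [IsLocalRing R]
  [Algebra (S.presheaf.stalk s) R] [IsSepClosed (ResidueField R)] [HenselianLocalRing R]
  (F : EtDesc.Sh X)

/-- the section over the base change of a point lifted to the strict localisation -/
def δV (V : S.Etale) (ℓ : Spec (CommRingCat.of R) ⟶ V.left) (hℓ : ℓ ≫ V.hom = Hens2.specOf S s R) :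
    EtCoh.top (xR f s R) ⟶ (EtCoh.bc (pullback.fst f (Hens2.specOf S s R))).obj ((EtCoh.bc f).obj V) :=
  mkδ _ (pullback.lift (pullback.snd f _ ≫ ℓ) (pullback.fst f _) (by
      rw [Category.assoc, hℓ]; exact pullback.condition.symm))
    (by
      show pullback.lift _ _ _ ≫ pullback.snd V.hom f = 𝟙 _ ≫ _
      rw [pullback.lift_snd, Category.id_comp])

theorem δV_fst (V : S.Etale) (ℓ : Spec (CommRingCat.of R) ⟶ V.left) (hℓ : ℓ ≫ V.hom = Hens2.specOf S s R) :
    (δV f s R V ℓ hℓ).left ≫ pullback.fst _ _ ≫ pullback.fst V.hom f = pullback.snd f _ ≫ ℓ := by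
  rw [← Category.assoc, δV, mkδ_fst]
  exact pullback.lift_fst _ _ _

/-- value of a section on the base change to the strict localisation -/
def val (V : S.Etale) (v : (fib S s R).obj V) (σ : EtDesc.sect F ((EtCoh.bc f).obj V)) :
    EtDesc.sect ((EtDesc.pullSh (pullback.fst f (Hens2.specOf S s R))).obj F) (EtCoh.top (xR f s R)) :=
  ru _ F (δV f s R V (liftPt s R V v) (liftPt_w s R V v)) σ

theorem δV_map {V W : S.Etale} (a : W ⟶ V) (w : (fib S s R).obj W) :
    δV f s R W (liftPt s R W w) (liftPt_w s R W w) ≫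
        (EtCoh.bc (pullback.fst f (Hens2.specOf S s R))).map ((EtCoh.bc f).map a) =
      δV f s R V (liftPt s R V ((fib S s R).map a w)) (liftPt_w s R V _) := by
  let p := pullback.fst f (Hens2.specOf S s R)
  refine bc_ext p ?_
  refine (Category.assoc (δV f s R W (liftPt s R W w) (liftPt_w s R W w)).left _ _).trans ?_
  rw [bc_map_fst, ← Category.assoc, δV, δV, mkδ_fst, mkδ_fst]
  apply pullback.hom_ext
  · rw [Category.assoc]
    refine (congrArg (_ ≫ ·) (bc_map_fst f a)).trans ?_
    rw [pullback.lift_fst_assoc, pullback.lift_fst, Category.assoc, liftPt_map]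
  · rw [Category.assoc]
    refine (congrArg (_ ≫ ·) (bc_map_snd f a)).trans ?_
    rw [pullback.lift_snd, pullback.lift_snd]

theorem val_map {V W : S.Etale} (a : W ⟶ V) (w : (fib S s R).obj W) (σ : EtDesc.sect F ((EtCoh.bc f).obj V)) :
    val f s R F W w (F.obj.map ((EtCoh.bc f).map a).op σ) = val f s R F V ((fib S s R).map a w) σ := by
  rw [val, val, ru_res, δV_map]

theorem val_of_gm_eq {V : S.Etale} (v : (fib S s R).obj V) (σ τ : EtDesc.sect F ((EtCoh.bc f).obj V))
    (h : gm (Hens2.geomPt S s R) ((EtDesc.pushSh f).obj F) V v σ = gm (Hens2.geomPt S s R) ((EtDesc.pushSh f).obj F) V v τ) :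
    val f s R F V v σ = val f s R F V v τ := by
  obtain ⟨W, a, w, hw, he⟩ := (GrothendieckTopology.Point.toPresheafFiber_eq_iff'
    (P := ((EtDesc.pushSh f).obj F).obj) (Scheme.pointSmallEtale (Hens2.geomPt S s R)) V v σ τ).mp h
  have hw' : (fib S s R).map a w = v := hw
  rw [← hw', ← val_map, ← val_map]
  exact congrArg _ he

/-- the indices are cofinal among the pointed neighbourhoods -/
theorem exists_idx (V : S.Etale) (v : (fib S s R).obj V) :
    ∃ (i : Idx S s R) (a : i.nhd.et ⟶ V), (fib S s R).map a i.nhd.2 = v := by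
  let v' : Over.mk (Hens2.geomPt S s R) ⟶ (Scheme.Etale.forget S).obj V := v
  let y : Spec (CommRingCat.of (ResidueField R)) ⟶ V.left := v'.left
  obtain ⟨A, j, hj, hjy, -⟩ := Scheme.exists_affine_mem_range_and_range_subset
    (x := y.base (default : Spec (CommRingCat.of (ResidueField R)))) (U := (⊤ : V.left.Opens)) (by simp)
  haveI := V.prop
  have hr : Set.range y ⊆ Set.range j := by
    rintro _ ⟨a, rfl⟩
    rwa [Subsingleton.elim (α := Spec (CommRingCat.of (ResidueField R))) a default]
  let n : Nhd S s R := Functor.elementsMk _ (Scheme.AffineEtale.mk (j ≫ V.hom))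
    (Over.homMk (IsOpenImmersion.lift j y hr) (by
      show IsOpenImmersion.lift j y hr ≫ j ≫ V.hom = _
      rw [IsOpenImmersion.lift_fac_assoc]
      exact Over.w v'))
  let b : n.et ⟶ V := MorphismProperty.Over.homMk j rfl
  have hb : (fib S s R).map b n.2 = v := Over.OverMorphism.ext (IsOpenImmersion.lift_fac _ _ _)
  let e : (equivSmallModel.{u} (Nhd S s R)).inverse.obj ((equivSmallModel.{u} (Nhd S s R)).functor.obj n) ⟶ n :=
    (equivSmallModel.{u} (Nhd S s R)).unitIso.inv.app n
  refine ⟨(equivSmallModel.{u} (Nhd S s R)).functor.obj n, (Scheme.AffineEtale.Spec S).map e.1 ≫ b, ?_⟩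
  rw [Functor.map_comp_apply]
  exact (congrArg ((fib S s R).map b) e.2).trans hb

variable [IsLocalHom (algebraMap (S.presheaf.stalk s) R)]
  [_root_.Hensel.IsStrictHenselization (S.presheaf.stalk s) R]

/-- the pulled back neighbourhoods as étale schemes -/
abbrev xEt : Idx S s R ⥤ X.Etale := etDiag s R ⋙ EtCoh.bc f

/-- their cone -/
def xEtCone : Cone (xEt f s R ⋙ Scheme.Etale.forget X ⋙ Over.forget X) where
  pt := xR f s R
  π :=
    { app := fun i => xπ f s R i
      naturality := fun k j a => (Category.id_comp _).trans (xπ_w f s R a).symm }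

/-- it is a limit -/
def isLimitXEtCone : IsLimit (xEtCone f s R) :=
  { lift := fun t => (isLimitXCone f s R).lift ⟨t.pt, { app := t.π.app, naturality := fun k j a => t.π.naturality a }⟩
    fac := fun t i => (isLimitXCone f s R).fac ⟨t.pt, { app := t.π.app, naturality := fun k j a => t.π.naturality a }⟩ i
    uniq := fun t m hm => (isLimitXCone f s R).uniq
      ⟨t.pt, { app := t.π.app, naturality := fun k j a => t.π.naturality a }⟩ m hm }

instance {i j : Idx S s R} (a : i ⟶ j) : IsAffineHom ((xEt f s R).map a).left :=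
  inferInstanceAs (IsAffineHom ((xDiag f s R).map a))

theorem δlim_eq (i : Idx S s R) :
    δlim (xEt f s R) (xEtCone f s R) (pullback.fst f (Hens2.specOf S s R)) (xπ_snd f s R) i =
      δV f s R i.nhd.et (liftPt s R i.nhd.et i.nhd.2) (liftPt_w s R _ _) := by
  refine bc_ext _ ?_
  rw [δlim, δV, mkδ_fst]
  refine Eq.trans ?_ (mkδ_fst _ _ _).symm
  apply pullback.hom_ext
  · refine Eq.trans ?_ (pullback.lift_fst _ _ _).symm
    rw [liftPt_nhd]
    exact xπ_fst f s R i
  · refine Eq.trans ?_ (pullback.lift_snd _ _ _).symm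
    exact xπ_snd f s R i

variable [QuasiCompact f] [QuasiSeparated f]

/-- every section on the strict localisation comes from a neighbourhood -/
theorem exists_val_eq
    (t : EtDesc.sect ((EtDesc.pullSh (pullback.fst f (Hens2.specOf S s R))).obj F) (EtCoh.top (xR f s R))) :
    ∃ (V : S.Etale) (v : (fib S s R).obj V) (σ : EtDesc.sect F ((EtCoh.bc f).obj V)), val f s R F V v σ = t := by
  obtain ⟨i, σ, hσ⟩ := exists_ru_eq F (xEt f s R) (xEtCone f s R) (pullback.fst f (Hens2.specOf S s R))
    (xπ_snd f s R) (fun i => qcqs_xDiag f s R i) (isLimitXEtCone f s R) t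
  refine ⟨i.nhd.et, i.nhd.2, σ, Eq.trans ?_ hσ⟩
  rw [val]
  exact congrArg (fun δ => ru (pullback.fst f (Hens2.specOf S s R)) F δ σ) (δlim_eq f s R i).symm

/-- sections with equal values have equal germs -/
theorem gm_eq_of_val_eq {V : S.Etale} (v : (fib S s R).obj V) (σ τ : EtDesc.sect F ((EtCoh.bc f).obj V))
    (h : val f s R F V v σ = val f s R F V v τ) :
    gm (Hens2.geomPt S s R) ((EtDesc.pushSh f).obj F) V v σ = gm (Hens2.geomPt S s R) ((EtDesc.pushSh f).obj F) V v τ := by
  obtain ⟨i, a, ha⟩ := exists_idx s R V v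
  obtain ⟨k, b, hb⟩ := exists_eq_of_ru_eq F (xEt f s R) (xEtCone f s R) (pullback.fst f (Hens2.specOf S s R))
    (xπ_snd f s R) (fun i => qcqs_xDiag f s R i) (isLimitXEtCone f s R)
    (F.obj.map ((EtCoh.bc f).map a).op σ) (F.obj.map ((EtCoh.bc f).map a).op τ) (by
      have e := δlim_eq f s R i
      rw [← ha, ← val_map, ← val_map, val, val] at h
      exact (congrArg (fun δ => ru (pullback.fst f (Hens2.specOf S s R)) F δ (F.obj.map ((EtCoh.bc f).map a).op σ)) e).trans
        (h.trans (congrArg (fun δ => ru (pullback.fst f (Hens2.specOf S s R)) F δ (F.obj.map ((EtCoh.bc f).map a).op τ)) e).symm))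
  have hk : (fib S s R).map ((etDiag s R).map b ≫ a) k.nhd.2 = v := by
    rw [Functor.map_comp_apply]
    exact (congrArg ((fib S s R).map a) (Idx.nhdMap b).2).trans ha
  rw [← hk]
  refine (GrothendieckTopology.Point.toPresheafFiber_eq_iff' (P := ((EtDesc.pushSh f).obj F).obj)
    (Scheme.pointSmallEtale (Hens2.geomPt S s R)) V _ σ τ).mpr ⟨k.nhd.et, (etDiag s R).map b ≫ a, k.nhd.2, rfl, ?_⟩
  show F.obj.map ((EtCoh.bc f).map ((etDiag s R).map b ≫ a)).op σ = F.obj.map ((EtCoh.bc f).map ((etDiag s R).map b ≫ a)).op τ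
  rw [Functor.map_comp, ← map_map, ← map_map]
  exact hb

/-- two neighbourhoods with equal values have equal germs -/
theorem gm_eq_of_val_eq' {V W : S.Etale} (v : (fib S s R).obj V) (w : (fib S s R).obj W)
    (σ : EtDesc.sect F ((EtCoh.bc f).obj V)) (τ : EtDesc.sect F ((EtCoh.bc f).obj W))
    (h : val f s R F V v σ = val f s R F W w τ) :
    gm (Hens2.geomPt S s R) ((EtDesc.pushSh f).obj F) V v σ = gm (Hens2.geomPt S s R) ((EtDesc.pushSh f).obj F) W w τ := by
  obtain ⟨Q, q, a, b, ha, hb⟩ := exists_common (Hens2.geomPt S s R) v w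
  rw [← ha, ← hb] at h ⊢
  rw [← gm_map, ← gm_map]
  refine gm_eq_of_val_eq f s R F q _ _ ?_
  exact (val_map f s R F a q σ).trans (h.trans (val_map f s R F b q τ).symm)

end Groth.Agent.EtShLib
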